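import Cfsg.Agent.Lib.Classical.SubfieldMax.SL2Sub
import Cfsg.Agent.Lib.Classical.SubfieldMax.Borel

/-!
# Field and plane lemmas for subfields of odd prime index
-/

set_option autoImplicit false
set_option linter.unusedSectionVars false
set_option linter.unusedSimpArgs false
set_option linter.style.haveILetI false
set_option backward.isDefEq.respectTransparency false

namespace CfsgLib.Classical.GeoThree.SU.Sub

open Matrix OnePoint MulAction CfsgLib.Classical.Dickson
open SubfieldMax (lowS eq_top_of_prime_degree smul_infty_iff)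
open scoped MatrixGroups

variable {K : Type*} [Field K] [Fintype K]

/-- No element is quadratic over a subfield of odd prime index. -/
theorem quad_mem (A : Subfield K) {r : ℕ} (hr : r.Prime) (hr3 : 3 ≤ r) (hcard : Fintype.card K = Nat.card A ^ r)
    {x a b : K} (ha : a ∈ A) (hb : b ∈ A) (h : x * x = a * x + b) : x ∈ A := by
  by_contra hx
  let R : Subring K :=
    { carrier := {y | ∃ c ∈ A, ∃ d ∈ A, y = c + d * x}
      one_mem' := ⟨1, one_mem A, 0, zero_mem A, by ring⟩
      zero_mem' := ⟨0, zero_mem A, 0, zero_mem A, by ring⟩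
      add_mem' := by
        rintro _ _ ⟨c, hc, d, hd, rfl⟩ ⟨c', hc', d', hd', rfl⟩
        exact ⟨c + c', add_mem hc hc', d + d', add_mem hd hd', by ring⟩
      neg_mem' := by
        rintro _ ⟨c, hc, d, hd, rfl⟩
        exact ⟨-c, neg_mem hc, -d, neg_mem hd, by ring⟩
      mul_mem' := by
        rintro _ _ ⟨c, hc, d, hd, rfl⟩ ⟨c', hc', d', hd', rfl⟩
        exact ⟨c * c' + d * d' * b, add_mem (mul_mem hc hc') (mul_mem (mul_mem hd hd') hb),
          c * d' + d * c' + d * d' * a, add_mem (add_mem (mul_mem hc hd') (mul_mem hd hc'))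
            (mul_mem (mul_mem hd hd') ha), by linear_combination (d * d') * h⟩ }
  have hall := eq_top_of_prime_degree hr hcard R (fun c hc => ⟨c, hc, 0, zero_mem A, by ring⟩)
    (show x ∈ R from ⟨0, zero_mem A, 1, one_mem A, by ring⟩) hx
  have hsurj : Function.Surjective fun p : A × A => (p.1 : K) + p.2 * x := fun y => by
    obtain ⟨c, hc, d, hd, e⟩ := hall y
    exact ⟨(⟨c, hc⟩, ⟨d, hd⟩), e.symm⟩
  have h1 := Nat.card_le_card_of_surjective _ hsurj
  rw [Nat.card_prod, Nat.card_eq_fintype_card (α := K), hcard, ← pow_two] at h1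
  have h2 : 1 < Nat.card A := Finite.one_lt_card
  have := (Nat.pow_le_pow_iff_right h2).1 h1
  omega

/-- Rational lower transvections and an irrational upper one, in odd characteristic. -/
theorem lower_full_odd (h2 : (2 : K) ≠ 0) {k₀ : Subfield K} {r : ℕ} (hr : r.Prime) (hr3 : 3 ≤ r)
    (hcard : Fintype.card K = Nat.card k₀ ^ r) (H : Subgroup SL(2, K)) (hlow : ∀ c ∈ k₀, lowS c ∈ H)
    {t : K} (ht : upT t ∈ H) (ht0 : t ∉ k₀) (s : K) : lowS s ∈ H :=
  SubfieldMax.lowS_mem h2 hr hcard H hlow ht ht0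
    (fun e => ht0 (quad_mem k₀ hr hr3 hcard (zero_mem k₀) (neg_mem (one_mem k₀)) (by linear_combination e))) s

/-- In characteristic two, four lower transvections and one upper generate. -/
theorem eq_top_two [DecidableEq K] (h2 : (2 : K) = 0) {k₀ : Subfield K} {r : ℕ} (hr : r.Prime)
    (hcard : Fintype.card K = Nat.card k₀ ^ r) (H : Subgroup SL(2, K)) (Λ : AddSubgroup K)
    (hk₀ : ∀ c ∈ k₀, c ∈ Λ) (h4 : 4 ≤ Nat.card Λ) (hlow : ∀ s ∈ Λ, lowS s ∈ H) {μ : K} (hμ : upT μ ∈ H)
    (hμ0 : μ ≠ 0) (hirr : ∃ s ∈ Λ, s * μ ∉ k₀) : H = ⊤ := by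
  classical
  obtain ⟨p, hpK⟩ := CharP.exists K
  haveI : Fact p.Prime := ⟨CharP.char_is_prime K p⟩
  have hp2 : p = 2 := by
    have h : ((2 : ℕ) : K) = 0 := by exact_mod_cast h2
    exact (Nat.prime_two.eq_one_or_self_of_dvd _ ((CharP.cast_eq_zero_iff K p 2).1 h)).resolve_left
      (Fact.out (p := p.Prime)).ne_one
  set T := SpecialLinearGroup.toPGL (n := Fin 2) (R := K) with hT
  have hinj : Function.Injective T := by
    rw [injective_iff_map_eq_one]
    intro g hg
    change ProjGenLinGroup.mk (SpecialLinearGroup.toGL g) = ProjGenLinGroup.mk 1 at hg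
    obtain ⟨c, hc⟩ := ProjGenLinGroup.mk_eq_mk_iff.1 hg
    have h0 := congrArg (fun m : GL (Fin 2) K => (m : Matrix (Fin 2) (Fin 2) K) 0 0) hc
    have h1 := congrArg (fun m : GL (Fin 2) K => (m : Matrix (Fin 2) (Fin 2) K) 1 1) hc
    have h01 := congrArg (fun m : GL (Fin 2) K => (m : Matrix (Fin 2) (Fin 2) K) 0 1) hc
    have h10 := congrArg (fun m : GL (Fin 2) K => (m : Matrix (Fin 2) (Fin 2) K) 1 0) hc
    simp [GeneralLinearGroup.coe_scalar, SpecialLinearGroup.toGL, Matrix.mul_apply, Fin.sum_univ_two] at h0 h1 h01 h10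
    have hd := g.det_coe
    rw [det_fin_two] at hd
    have h11 : (g : Matrix (Fin 2) (Fin 2) K) 1 1 = (g : Matrix (Fin 2) (Fin 2) K) 0 0 := by
      have hc0 : (c : K) ≠ 0 := Units.ne_zero c
      first
        | linear_combination h1 - h0
        | exact mul_left_cancel₀ hc0 (by linear_combination h1 - h0)
    have h00 : (g : Matrix (Fin 2) (Fin 2) K) 0 0 = 1 := by
      have h01' : (g : Matrix (Fin 2) (Fin 2) K) 0 1 = 0 := by
        first
          | exact h01
          | linear_combination h01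
      rw [h11, h01', zero_mul, sub_zero] at hd
      exact sub_eq_zero.1 (mul_self_eq_zero.1 (show ((g : Matrix (Fin 2) (Fin 2) K) 0 0 - 1) *
        ((g : Matrix (Fin 2) (Fin 2) K) 0 0 - 1) = 0 by
          linear_combination hd - ((g : Matrix (Fin 2) (Fin 2) K) 0 0 - 1) * h2))
    refine Subtype.ext ?_
    ext i j
    fin_cases i <;> fin_cases j <;> simp_all
  set G := H.map T with hG
  have hmem : ∀ h ∈ H, T h ∈ G := fun h hh => Subgroup.mem_map_of_mem _ hh
  have hone : (1 : K) ∈ Λ := hk₀ 1 (one_mem k₀)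
  have hsq1 : ∀ s : K, T (lowS s) ^ 2 = 1 := fun s => by
    rw [← map_pow, show lowS s ^ 2 = 1 by
      rw [pow_two]
      refine Subtype.ext ?_
      simp [SubfieldMax.coe_lowS, Matrix.mul_fin_two, Matrix.one_fin_two]
      linear_combination s * h2, map_one]
  have hsne : ∀ s : K, s ≠ 0 → T (lowS s) ≠ 1 := fun s hs e => hs (by
    have := congrArg (fun m : SL(2, K) => (m : Matrix (Fin 2) (Fin 2) K) 1 0) (hinj (e.trans (map_one T).symm))
    simpa [SubfieldMax.coe_lowS] using this)
  -- no fixed point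
  have hfixed : ∀ x : OnePoint K, (∀ g ∈ G, g • x = x) → False := by
    intro x hx
    have hz : T (lowS 1) • (((0 : K) : OnePoint K)) = ((0 : K) : OnePoint K) := by
      rw [hT, show SpecialLinearGroup.toPGL (lowS (1 : K)) = ProjGenLinGroup.mk (SpecialLinearGroup.toGL (lowS 1))
        from rfl, mk_smul]
      simp [lowS, SpecialLinearGroup.toGL, OnePoint.smul_some_eq_ite]
    have hx0 := fix_of_unip p (hsne 1 one_ne_zero) (by rw [hp2]; exact hsq1 1) hz (hx _ (hmem _ (hlow 1 hone)))
    rw [hx0] at hx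
    have h := hx _ (hmem _ hμ)
    rw [hT, show SpecialLinearGroup.toPGL (upT μ) = ProjGenLinGroup.mk (SpecialLinearGroup.toGL (upT μ)) from rfl,
      mk_smul] at h
    simp [upT, SpecialLinearGroup.toGL, OnePoint.smul_some_eq_ite, hμ0] at h
  -- a group of four commuting involutions
  let ι : Multiplicative Λ →* G :=
    { toFun := fun b => ⟨T (lowS (Multiplicative.toAdd b).1), hmem _ (hlow _ (Multiplicative.toAdd b).2)⟩
      map_one' := Subtype.ext (by
        show T (lowS ((0 : Λ) : K)) = 1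
        rw [show lowS ((0 : Λ) : K) = 1 by refine Subtype.ext ?_; simp [SubfieldMax.coe_lowS, Matrix.one_fin_two],
          map_one])
      map_mul' := fun a b => Subtype.ext (by
        show T (lowS (((Multiplicative.toAdd a + Multiplicative.toAdd b : Λ)) : K)) = T _ * T _
        rw [← map_mul]
        congr 1
        refine Subtype.ext ?_
        simp [SubfieldMax.coe_lowS, Matrix.mul_fin_two]) }
  have hι : Function.Injective ι := fun a b h => by
    have := congrArg (fun m : SL(2, K) => (m : Matrix (Fin 2) (Fin 2) K) 1 0) (hinj (Subtype.ext_iff.1 h))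
    exact Multiplicative.toAdd.injective (Subtype.ext (by simpa [SubfieldMax.coe_lowS] using this))
  have hdvd : Nat.card Λ ∣ Nat.card G := by
    have := Subgroup.card_dvd_of_injective ι hι
    rwa [Nat.card_congr Multiplicative.toAdd] at this
  obtain ⟨n, hn⟩ := FiniteField.card K p
  obtain ⟨j, -, hj⟩ : ∃ j ≤ (n : ℕ), Nat.card Λ = p ^ j := (Nat.dvd_prime_pow Fact.out).1 (by
    rw [← hn.2, ← Nat.card_eq_fintype_card]; exact Λ.card_addSubgroup_dvd_card)
  have hpG : p ∣ Nat.card G := (dvd_pow_self p (fun e => by rw [e, pow_zero] at hj; omega)).trans (hj ▸ hdvd)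
  have hrat : ∀ (A : Subfield K) (h : ProjGenLinGroup (Fin 2) K), G.map (MulAut.conj h).toMonoidHom = ratPGL A →
      H = ⊤ := by
    intro A h hA
    have hsq : ∀ s ∈ Λ, s * μ ∈ A := by
      intro s hs
      have hm : MulAut.conj h (T (lowS s * upT μ)) ∈ ratPGL A :=
        hA ▸ Subgroup.mem_map_of_mem _ (hmem _ (H.mul_mem (hlow s hs) hμ))
      have h1 := tinv_mem hm
      rw [tinv_conj, hT, show SpecialLinearGroup.toPGL (lowS s * upT μ) =
        ProjGenLinGroup.mk (SpecialLinearGroup.toGL (lowS s * upT μ)) from rfl, tinv_mk] at h1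
      simp [SpecialLinearGroup.toGL, lowS, upT, trace_fin_two, det_fin_two, Matrix.mul_fin_two] at h1
      have h1' : (s * μ) ^ 2 ∈ A := by
        convert h1 using 1
        linear_combination (-(2 : K)) * h2 + (-(2 : K) * (s * μ)) * h2
      haveI : CharP K 2 := CharTwo.of_one_ne_zero_of_two_eq_zero one_ne_zero h2
      haveI : CharP A 2 := (RingHom.charP_iff A.subtype A.subtype.injective 2).mpr inferInstance
      haveI := Fintype.ofFinite A
      obtain ⟨b, hb⟩ := (bijective_frobenius A 2).2 ⟨_, h1'⟩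
      have e : (b : K) ^ 2 = (s * μ) ^ 2 := congrArg Subtype.val hb
      have : (b : K) = s * μ := sub_eq_zero.1 (mul_self_eq_zero.1 (show ((b : K) - s * μ) * ((b : K) - s * μ) = 0 by
        linear_combination e - ((b : K) * (s * μ) - (s * μ) * (s * μ)) * h2))
      exact this ▸ b.2
    have hμA : μ ∈ A := by simpa using hsq 1 hone
    have hk₀A : ∀ c ∈ k₀, c ∈ A := fun c hc => by
      have := div_mem (hsq c (hk₀ c hc)) hμA
      rwa [mul_div_assoc, div_self hμ0, mul_one] at this
    obtain ⟨s, hs, hsμ⟩ := hirr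
    have hall := eq_top_of_prime_degree hr hcard A.toSubring hk₀A (show s * μ ∈ A.toSubring from hsq s hs) hsμ
    rw [show A = ⊤ from eq_top_iff.2 fun x _ => hall x, ratPGL_top] at hA
    have hGtop : G = ⊤ := by
      refine eq_top_iff.2 fun g _ => ?_
      have : MulAut.conj h g ∈ G.map (MulAut.conj h).toMonoidHom := hA ▸ Subgroup.mem_top _
      obtain ⟨g', hg', e⟩ := this
      exact (MulAut.conj h).injective e ▸ hg'
    refine eq_top_iff.2 fun x _ => ?_
    obtain ⟨y, hy, e⟩ : T x ∈ G := hGtop ▸ Subgroup.mem_top _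
    exact hinj e ▸ hy
  rcases Dickson.kind p G with ⟨x, hx⟩ | ⟨c, hc, hpc⟩ | ⟨c, -, hpc, h2c, ⟨f⟩⟩ | ⟨⟨f⟩⟩ | ⟨⟨f⟩⟩ | ⟨⟨f⟩⟩ |
    ⟨A, h, hA⟩ | ⟨A, hA2, h, hA⟩
  · exact (hfixed x hx).elim
  · exact absurd (by rwa [hc, Nat.card_zpowers] at hpG) hpc
  · exfalso
    rw [Nat.card_congr f.toEquiv, DihedralGroup.nat_card, hj] at hdvd
    have hcop : (p ^ j).Coprime (orderOf c) := (((Fact.out : p.Prime).coprime_iff_not_dvd).2 hpc).pow_left j
    have := Nat.le_of_dvd (by norm_num) (hcop.dvd_of_dvd_mul_right hdvd)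
    omega
  · obtain ⟨x, hx⟩ := fixed_of_four p hp2 ((alternatingGroup (Fin 4)).subtype.comp f.toMonoidHom)
      (Subtype.val_injective.comp f.injective) fun x hx => ⟨f.symm ⟨x, hx⟩, by simp⟩
    exact (hfixed x hx).elim
  · obtain ⟨x, hx⟩ := fixed_of_four p hp2 f.toMonoidHom f.injective
      fun x _ => ⟨f.symm x, f.apply_symm_apply x⟩
    exact (hfixed x hx).elim
  · obtain ⟨A, h, -, hA⟩ := a5_char_two p hp2 f
    exact hrat A h hA
  · exact hrat A h hA
  · exfalso
    haveI : CharP A p := (RingHom.charP_iff A.subtype A.subtype.injective p).mpr inferInstance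
    haveI := Fintype.ofFinite A
    have := FiniteField.even_card_of_char_two (F := A) (by
      rw [ringChar.eq A p]; exact hp2)
    rw [Nat.card_eq_fintype_card] at hA2
    omega

end CfsgLib.Classical.GeoThree.SU.Sub
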