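import Cfsg.Agent.Lib.Classical.GeoFour.SU.SubfieldTop
import Cfsg.Agent.Lib.Classical.GeoThree.SU.Sub.Field

/-!
# Rational isotropic vectors of a three-dimensional unitary space
-/

set_option autoImplicit false
set_option linter.unusedSectionVars false
set_option linter.unusedSimpArgs false
set_option backward.isDefEq.respectTransparency false

open Module Matrix
open scoped MatrixGroups

namespace CfsgLib.Classical.GeoThree.SU.Sub

open SubfieldMax (IsHFrame RatHTv coe_smul_eq smul_mem')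

variable {F : Type*} [Field F] [Fintype F] {V : Type*} [AddCommGroup V] [Module F V] [FiniteDimensional F V]
  {σ : F →+* F} {F₀ : Subfield F} {B : V →ₛₗ[σ] V →ₗ[F] F} {V₀ : Submodule F₀ V} {ε : F}

variable (hR : IsHFrame B V₀ ε) (h3 : finrank F V = 3)
include hR h3

theorem three_le : 3 ≤ finrank F₀ V₀ := h3 ▸ hR.finrank_le

/-- A hyperbolic pair and a unit-like vector of the rational structure. -/
theorem exists_triple {u : V₀} (huu : B (u : V) (u : V) = 0) (hu : u ≠ 0) :
    ∃ f x : V₀, B (f : V) (f : V) = 0 ∧ B (u : V) (f : V) = 1 ∧ B (f : V) (u : V) = 1 ∧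
      B (u : V) (x : V) = 0 ∧ B (x : V) (u : V) = 0 ∧ B (f : V) (x : V) = 0 ∧ B (x : V) (f : V) = 0 ∧
      B (x : V) (x : V) ≠ 0 ∧
      ∀ z : V, z = B (f : V) z • (u : V) + B (u : V) z • (f : V) + (B (x : V) z / B (x : V) (x : V)) • (x : V) := by
  classical
  obtain ⟨f, hff, huf, -⟩ := hR.exists_iso_partner huu [] (by simp) (by simpa using hu)
  have hfu : B (f : V) (u : V) = 1 := by rw [← hR.symm, huf, map_one]
  obtain ⟨x, hx, hx0⟩ : ∃ x : V₀, x ∈ LinearMap.ker ((hR.form₀ u).prod (hR.form₀ f)) ∧ x ≠ 0 := by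
    refine Submodule.exists_mem_ne_zero_of_ne_bot fun hbot => ?_
    have h1 := ((hR.form₀ u).prod (hR.form₀ f)).finrank_range_add_finrank_ker
    have h2 : finrank F₀ (LinearMap.range ((hR.form₀ u).prod (hR.form₀ f))) ≤ 2 :=
      (Submodule.finrank_le _).trans (by simp)
    have h4 := three_le hR h3
    rw [hbot, finrank_bot] at h1
    omega
  simp [Prod.ext_iff, hR.form₀_eq_zero] at hx
  obtain ⟨hux, hfx⟩ := hx
  have hx0' : (x : V) ≠ 0 := fun e => hx0 (Subtype.ext e)
  set L : V →ₗ[F] F × F := (B (u : V)).prod (B (f : V)) with hL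
  have hrange : LinearMap.range L = ⊤ := by
    refine LinearMap.range_eq_top.2 fun p => ⟨p.1 • (f : V) + p.2 • (u : V), ?_⟩
    simp [hL, huu, hff, huf, hfu]
  have hker : LinearMap.ker L = Submodule.span F {(x : V)} := by
    refine (Submodule.eq_of_le_of_finrank_eq ?_ ?_).symm
    · rw [Submodule.span_singleton_le_iff_mem, LinearMap.mem_ker]
      simp [hL, hux, hfx]
    · have h1 := L.finrank_range_add_finrank_ker
      rw [hrange, finrank_top, h3, Module.finrank_prod, Module.finrank_self] at h1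
      rw [finrank_span_singleton hx0']
      omega
  have hxu := hR.symm_zero hux
  have hxf := hR.symm_zero hfx
  have hdec : ∀ z : V, ∃ c : F, z = B (f : V) z • (u : V) + B (u : V) z • (f : V) + c • (x : V) := fun z => by
    have hz : z - B (f : V) z • (u : V) - B (u : V) z • (f : V) ∈ LinearMap.ker L := by
      rw [LinearMap.mem_ker]
      simp [hL, huu, hff, huf, hfu]
    rw [hker, Submodule.mem_span_singleton] at hz
    obtain ⟨c, hc⟩ := hz
    exact ⟨c, by rw [hc]; abel⟩
  have hxx : B (x : V) (x : V) ≠ 0 := fun e => hx0' (hR.nondeg _ fun z => by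
    obtain ⟨c, hc⟩ := hdec z
    rw [hc]; simp [hux, hfx, e])
  refine ⟨f, x, hff, huf, hfu, hux, hxu, hfx, hxf, hxx, fun z => ?_⟩
  obtain ⟨c, hc⟩ := hdec z
  have h1 : B (x : V) z = c * B (x : V) (x : V) := by
    conv_lhs => rw [hc]
    simp [hxu, hxf]
  rw [h1, mul_div_cancel_right₀ _ hxx]
  exact hc

/-- An isotropic vector orthogonal to a rational isotropic vector is a multiple of it. -/
theorem iso_perp {u : V₀} (huu : B (u : V) (u : V) = 0) (hu : u ≠ 0) {y : V} (hyy : B y y = 0)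
    (huy : B (u : V) y = 0) : ∃ c : F, y = c • (u : V) := by
  obtain ⟨f, x, hff, huf, hfu, hux, hxu, hfx, hxf, hxx, hdec⟩ := exists_triple hR h3 huu hu
  have hy := hdec y
  rw [huy, zero_smul, add_zero] at hy
  set c := B (x : V) y / B (x : V) (x : V)
  have h1 : σ c * c * B (x : V) (x : V) = 0 := by
    have h2 := hyy
    rw [hy] at h2
    simp [huu, hux, hxu] at h2
    rcases h2 with h | h
    all_goals simp [h, hxx]
  have hc : c = 0 := by
    rcases mul_eq_zero.1 ((mul_eq_zero.1 h1).resolve_right hxx) with h | h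
    · rw [← hR.invol c, h, map_zero]
    · exact h
  exact ⟨B (f : V) y, hy.trans (by rw [hc, zero_smul, add_zero])⟩

/-- The isotropic rational vectors span. -/
theorem span_iso (y : V₀) : y ∈ Submodule.span F₀ (IsHFrame.isoPerp B V₀ []) :=
  hR.mem_span_iso [] (by have := three_le hR h3; simp; omega) (by simp)

/-- An isometry not preserving the rational structure moves some isotropic rational vector off it. -/
theorem exists_moved {g : isomGroup B} (hnot : ¬ ∃ s : F, s ≠ 0 ∧ ∀ f ∈ V₀, s • g.1 f ∈ V₀) :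
    ∃ e : V₀, B (e : V) (e : V) = 0 ∧ ∀ s : F, s ≠ 0 → s • g.1 (e : V) ∉ V₀ := by
  by_contra hc
  push Not at hc
  choose s hs0 hs using hc
  obtain ⟨u, -, hu0, huu⟩ := hR.exists_iso_in ⊤ (by rw [finrank_top]; have := three_le hR h3; omega)
  refine hnot ⟨s u huu, hs0 u huu, fun f hf => ?_⟩
  suffices ∀ e : V₀, B (e : V) (e : V) = 0 → s u huu • g.1 (e : V) ∈ V₀ by
    suffices ∀ y ∈ Submodule.span F₀ (IsHFrame.isoPerp B V₀ []), s u huu • g.1 (y : V) ∈ V₀ from
      this _ (span_iso hR h3 ⟨f, hf⟩)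
    intro y hy
    induction hy using Submodule.span_induction with
    | mem y hy => exact this y hy.1
    | zero => simp
    | add a b _ _ ha hb => simpa [smul_add] using add_mem ha hb
    | smul c a _ ha =>
      rw [SetLike.val_smul, coe_smul_eq, map_smul, smul_comm]
      exact smul_mem' c.2 ha
  intro e hee
  by_cases hue : B (u : V) (e : V) = 0
  · obtain ⟨f', hff, huf, -⟩ := hR.exists_iso_partner huu [] (by simp) (by simpa using hu0)
    obtain ⟨c, hc⟩ := iso_perp hR h3 huu hu0 hee hue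
    have hcF : c ∈ F₀ := by
      have h1 := hR.form _ f'.2 _ e.2
      rwa [hc, map_smul, smul_eq_mul, show B (f' : V) (u : V) = 1 by rw [← hR.symm, huf, map_one], mul_one] at h1
    rw [hc, map_smul, smul_comm]
    exact smul_mem' hcF (hs u huu)
  set d : F₀ := ⟨ε / B (u : V) (e : V), div_mem hR.eps_mem (hR.form _ u.2 _ e.2)⟩ with hd
  have hd0 : (d : F) ≠ 0 := div_ne_zero hR.eps_ne hue
  have heu : B (e : V) (u : V) ≠ 0 := fun h => hue (hR.symm_zero h)
  obtain ⟨x, hxx, hxu, hxe⟩ : ∃ x : V₀, B (x : V) (x : V) = 0 ∧ B (x : V) (u : V) ≠ 0 ∧ B (x : V) (e : V) ≠ 0 := by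
    refine ⟨u + d • e, ?_, ?_, ?_⟩
    · rw [Submodule.coe_add, SetLike.val_smul, coe_smul_eq, hR.herm.add_self, hR.herm.smul_self, huu, hee, map_smul,
        smul_eq_mul, hd, div_mul_cancel₀ _ hue, hR.eps_tr]
      ring
    · simp [coe_smul_eq, huu, hd0, heu]
    · simp [coe_smul_eq, hee, hue]
  have key : ∀ (a : V₀) (ha : B (a : V) (a : V) = 0), B (x : V) (a : V) ≠ 0 → σ (s x hxx) * s a ha ∈ F₀ := by
    intro a ha hxa
    have h := hR.form _ (hs x hxx) _ (hs a ha)
    have h' : σ (s x hxx) * s a ha * B (x : V) (a : V) ∈ F₀ := by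
      convert h using 1
      simp only [map_smulₛₗ, LinearMap.smul_apply, isomGroup_apply, smul_eq_mul, RingHom.id_apply]
      ring
    have := div_mem h' (hR.form _ x.2 _ a.2)
    rwa [mul_div_cancel_right₀ _ hxa] at this
  have h1 := div_mem (key u huu hxu) (key e hee hxe)
  have e1 : s u huu • g.1 (e : V) =
      (σ (s x hxx) * s u huu / (σ (s x hxx) * s e hee)) • (s e hee • g.1 (e : V)) := by
    rw [smul_smul]
    congr 1
    have := (map_ne_zero σ).2 (hs0 x hxx)
    have := hs0 e hee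
    field_simp
  rw [e1]
  exact smul_mem' h1 (hs e hee)

/-- An irrational isotropic point has an irrational pairing length with some rational isotropic vector. -/
theorem exists_pair {r : ℕ} (hr : r.Prime) (hr3 : 3 ≤ r) (hcard : Fintype.card F = Nat.card F₀ ^ r) {w : V}
    (hww : B w w = 0) (hw0 : w ≠ 0) (hnot : ∀ s : F, s ≠ 0 → s • w ∉ V₀) :
    ∃ u : V₀, B (u : V) (u : V) = 0 ∧ B (u : V) w ≠ 0 ∧ B (u : V) w * σ (B (u : V) w) ∉ F₀ := by
  by_contra hc
  push Not at hc
  have hall : ∀ u : V₀, B (u : V) (u : V) = 0 → B (u : V) w * σ (B (u : V) w) ∈ F₀ := fun u hu => by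
    by_cases h : B (u : V) w = 0
    · rw [h, zero_mul]; exact zero_mem _
    · exact hc u hu h
  obtain ⟨u₀, huu, hR0⟩ : ∃ u : V₀, B (u : V) (u : V) = 0 ∧ B (u : V) w ≠ 0 := by
    by_contra hall0
    push Not at hall0
    refine hw0 (hR.sep fun z hz => ?_)
    suffices ∀ y ∈ Submodule.span F₀ (IsHFrame.isoPerp B V₀ []), B (y : V) w = 0 from this _ (span_iso hR h3 ⟨z, hz⟩)
    intro y hy
    induction hy using Submodule.span_induction with
    | mem y hy => exact hall0 y hy.1
    | zero => simp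
    | add a b _ _ ha hb => simp [ha, hb]
    | smul c a _ ha => simp [coe_smul_eq, ha]
  obtain ⟨f, x, hff, huf, hfu, hux, hxu, hfx, hxf, hxx, hdec⟩ :=
    exists_triple hR h3 huu (fun e => hR0 (by simp [e]))
  set R := B (u₀ : V) w with hRdef
  set w' := R⁻¹ • w with hw'
  have hw'u : B (u₀ : V) w' = 1 := by rw [hw', map_smul, smul_eq_mul, ← hRdef, inv_mul_cancel₀ hR0]
  have hN : ∀ u : V₀, B (u : V) (u : V) = 0 → B (u : V) w' * σ (B (u : V) w') ∈ F₀ := fun u hu => by
    have h := div_mem (hall u hu) (hall u₀ huu)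
    rw [← hRdef] at h
    convert h using 1
    rw [hw', map_smul, smul_eq_mul, map_mul, map_inv₀]
    field_simp
  clear_value w'
  -- a coordinate with its shifts
  have hval : ∀ a : F₀, ∃ b ∈ F₀, σ (a : F) * B (x : V) w' + b + B (f : V) w' ∈ F₀ := by
    intro a
    obtain ⟨b, hb⟩ := hR.conj₀.exists_trace_eq (a := -(a * hR.sig₀ a * hR.form₀ x x))
      (by rw [map_neg, map_mul, map_mul, hR.conj₀.invol, hR.herm₀.self_fixed, mul_comm (hR.sig₀ a)])
    have hb' : (b : F) + σ (b : F) = -((a : F) * σ (a : F) * B (x : V) (x : V)) := by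
      simpa [hR.sig₀_coe, hR.form₀_coe] using congrArg (Subtype.val : F₀ → F) hb
    have hiso : ∀ t : F, t ∈ F₀ → t + σ t = 0 → ∃ v : V₀, B (v : V) (v : V) = 0 ∧
        B (v : V) w' = σ (a : F) * B (x : V) w' + σ ((b : F) + t) + B (f : V) w' := by
      intro t ht htr
      refine ⟨f + a • x + (⟨(b : F) + t, add_mem b.2 ht⟩ : F₀) • u₀, ?_, ?_⟩
      · simp [coe_smul_eq, hff, huu, huf, hfu, hux, hxu, hfx, hxf]
        linear_combination hb' + htr
      · simp [coe_smul_eq, hw'u]
        ring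
    obtain ⟨v, hvv, hv⟩ := hiso 0 (zero_mem _) (by rw [map_zero, add_zero])
    obtain ⟨v', hvv', hv'⟩ := hiso ε hR.eps_mem (by rw [hR.eps_tr, add_neg_cancel])
    rw [add_zero] at hv
    refine ⟨σ (b : F), hR.stable _ b.2, ?_⟩
    set c := σ (a : F) * B (x : V) w' + σ (b : F) + B (f : V) w' with hcdef
    have hv'' : B (v' : V) w' = c - ε := by rw [hv', map_add, hR.eps_tr, hcdef]; ring
    have hNc : c * σ c ∈ F₀ := hv ▸ hN v hvv
    have hNc' : (c - ε) * (σ c + ε) ∈ F₀ := by
      have := hN v' hvv'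
      rwa [hv'', map_sub, hR.eps_tr, sub_neg_eq_add] at this
    have hD : c - σ c ∈ F₀ := by
      have h := div_mem (add_mem (sub_mem hNc' hNc) (mul_mem hR.eps_mem hR.eps_mem)) hR.eps_mem
      rwa [show (c - ε) * (σ c + ε) - c * σ c + ε * ε = (c - σ c) * ε by ring,
        mul_div_cancel_right₀ _ hR.eps_ne] at h
    exact quad_mem F₀ hr hr3 hcard hD hNc (by ring)
  have hP : B (f : V) w' ∈ F₀ := by
    obtain ⟨b, hb, h⟩ := hval 0
    have := sub_mem h hb
    simpa using this
  have hQ : B (x : V) w' ∈ F₀ := by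
    obtain ⟨b, hb, h⟩ := hval 1
    have := sub_mem (sub_mem h hb) hP
    convert this using 1
    simp
    ring
  refine hnot R⁻¹ (inv_ne_zero hR0) ?_
  rw [← hw', hdec w', hw'u, one_smul]
  exact add_mem (add_mem (smul_mem' hP u₀.2) f.2) (smul_mem' (div_mem hQ (hR.form _ x.2 _ x.2)) x.2)

end CfsgLib.Classical.GeoThree.SU.Sub
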