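import Cfsg.Agent.Lib.Classical.GeoThree.SU.Sub.Basic
import Cfsg.Agent.Lib.Classical.UFrameMax.Circle

/-!
# Transvections along a hyperbolic line
-/

set_option autoImplicit false
set_option linter.unusedSectionVars false
set_option linter.unusedSimpArgs false
set_option linter.style.haveILetI false
set_option backward.isDefEq.respectTransparency false

open Module Matrix
open scoped MatrixGroups

namespace CfsgLib.Classical.GeoThree.SU.Sub

open SubfieldMax (IsHFrame RatHTv coe_smul_eq smul_mem' lowS)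
open GeoFour.SU.SubTop (planeGroup hTv_smul)
open CfsgLib.Classical.Dickson (upT)

variable {F : Type*} [Field F] [Fintype F] {V : Type*} [AddCommGroup V] [Module F V] [FiniteDimensional F V]
  {σ : F →+* F} {F₀ : Subfield F} {B : V →ₛₗ[σ] V →ₗ[F] F} {V₀ : Submodule F₀ V} {ε : F}

variable (σ) in
/-- The fixed field of the conjugation. -/
def kfix : Subfield F := σ.eqLocusField (RingHom.id F)

/-- The fixed elements of the subfield. -/
def krat {F : Type*} [Field F] (F₀ : Subfield F) (σ : F →+* F) : Subfield (kfix σ) := F₀.comap (kfix σ).subtype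

theorem mem_krat {x : kfix σ} : x ∈ krat F₀ σ ↔ (x : F) ∈ F₀ := Iff.rfl

theorem kfix_fixed (x : kfix σ) : σ (x : F) = x := x.2

variable (hR : IsHFrame B V₀ ε)
include hR

theorem card_kfix {r : ℕ} (hcard : Fintype.card F = Nat.card F₀ ^ r) :
    Nat.card (kfix σ) = Nat.card (krat F₀ σ) ^ r := by
  classical
  haveI := Fintype.ofFinite F₀
  have h1 : Nat.card (kfix σ) = (UFrameMax.fixS σ).card := by
    rw [← Nat.card_eq_finsetCard]
    exact Nat.card_congr (Equiv.subtypeEquivRight fun y => UFrameMax.mem_fixS.symm)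
  have h2 : Nat.card (krat F₀ σ) = (UFrameMax.fixS hR.sig₀).card := by
    rw [← Nat.card_eq_finsetCard]
    exact Nat.card_congr
      { toFun := fun x => ⟨⟨(x.1 : F), x.2⟩, UFrameMax.mem_fixS.2 (Subtype.ext x.1.2)⟩
        invFun := fun y => ⟨⟨(y.1 : F), show σ (y.1 : F) = y.1 from congrArg Subtype.val (UFrameMax.mem_fixS.1 y.2)⟩, y.1.2⟩
        left_inv := fun x => rfl
        right_inv := fun y => rfl }
  have e1 := UFrameMax.card_fix_sq hR.herm.conj
  have e2 := UFrameMax.card_fix_sq hR.conj₀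
  rw [hcard, Nat.card_eq_fintype_card (α := F₀), e2, ← h1, ← h2, ← pow_mul, mul_comm, pow_mul] at e1
  exact (Nat.pow_left_injective two_ne_zero e1).symm

variable (M : Subgroup (isomGroup B))

/-- Matrices over the fixed field realised on a line by elements fixing its orthogonal. -/
noncomputable def planeK (u v : V) : Subgroup SL(2, kfix σ) :=
  haveI : Fintype (kfix σ) := Fintype.ofFinite _
  planeGroup
    (fun k => ∃ m ∈ M,
      (m : isomGroup B).1 v = ((k : Matrix (Fin 2) (Fin 2) (kfix σ)) 0 0 : F) • v +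
        ((k : Matrix (Fin 2) (Fin 2) (kfix σ)) 1 0 : F) • u ∧
      (m : isomGroup B).1 u = ((k : Matrix (Fin 2) (Fin 2) (kfix σ)) 0 1 : F) • v +
        ((k : Matrix (Fin 2) (Fin 2) (kfix σ)) 1 1 : F) • u ∧
      ∀ y, B u y = 0 → B v y = 0 → (m : isomGroup B).1 y = y)
    ⟨1, M.one_mem, by simp, by simp, fun y _ _ => rfl⟩ (by
      rintro k k' ⟨m, hm, h1, h2, h3⟩ ⟨m', hm', h1', h2', h3'⟩
      refine ⟨m * m', mul_mem hm hm', ?_, ?_, fun y hu hv => by
        rw [Subgroup.coe_mul, LinearEquiv.mul_apply, h3' y hu hv, h3 y hu hv]⟩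
      all_goals simp only [Subgroup.coe_mul, LinearEquiv.mul_apply, h1', h2', map_add, map_smul, h1, h2,
        Matrix.SpecialLinearGroup.coe_mul, Matrix.mul_apply, Fin.sum_univ_two, AddMemClass.coe_add,
        MulMemClass.coe_mul]
      all_goals module)

variable {M} {u v : V} (huu : B u u = 0) (hvv : B v v = 0) (huv : B u v = ε⁻¹)
include huu hvv huv

theorem pair_symm : B v u = -ε⁻¹ := by rw [← hR.symm u v, huv, map_inv₀, hR.eps_tr, inv_neg]

theorem lowS_mem_planeK (s : kfix σ) (h : hR.hTv u (s : F) ∈ M) : lowS s ∈ planeK M u v := by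
  refine ⟨_, h, ?_, ?_, fun y hu hv => ?_⟩
  · rw [hR.hTv_apply huu (kfix_fixed s), huv]
    simp [lowS, mul_comm ε, mul_assoc, hR.eps_ne]
  · rw [hR.hTv_apply huu (kfix_fixed s), huu]
    simp [lowS]
  · rw [hR.hTv_apply huu (kfix_fixed s), hu, mul_zero, zero_smul, add_zero]

theorem upT_mem_planeK (t : kfix σ) (h : hR.hTv v (t : F) ∈ M) : upT (-t) ∈ planeK M u v := by
  refine ⟨_, h, ?_, ?_, fun y hu hv => ?_⟩
  · rw [hR.hTv_apply hvv (kfix_fixed t), hvv]
    simp [upT]
  · rw [hR.hTv_apply hvv (kfix_fixed t), pair_symm hR huu hvv huv]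
    simp [upT, mul_comm ε, mul_assoc, hR.eps_ne]
    module
  · rw [hR.hTv_apply hvv (kfix_fixed t), hv, mul_zero, zero_smul, add_zero]

theorem hTv_of_planeK (s : kfix σ) (h : lowS s ∈ planeK M u v) : hR.hTv u (s : F) ∈ M := by
  obtain ⟨m, hm, h1, h2, h3⟩ := h
  convert hm using 1
  refine Subtype.ext (LinearEquiv.ext fun z => ?_)
  set y := z - (ε * B u z) • v + (ε * B v z) • u with hy
  have hε := hR.eps_ne
  have hyu : B u y = 0 := by simp [hy, huu, huv]; field_simp; ring
  have hyv : B v y = 0 := by simp [hy, hvv, pair_symm hR huu hvv huv]; field_simp; ring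
  have hz : z = y + (ε * B u z) • v - (ε * B v z) • u := by rw [hy]; abel
  rw [hR.hTv_apply huu (kfix_fixed s)]
  conv_rhs => rw [hz, map_sub, map_add, map_smul, map_smul, h3 y hyu hyv, h1, h2]
  simp [lowS, hy]
  module

omit huu hvv huv in
theorem hTv_neg (hu : B u u = 0) {t : F} (ht : σ t = t) : hR.hTv (-u) t = hR.hTv u t := by
  rw [← neg_one_smul F u, hTv_smul hR hu _ ht, map_neg, map_one, neg_mul_neg, one_mul, mul_one]

theorem pair_swap : B v (-u) = ε⁻¹ := by rw [map_neg, pair_symm hR huu hvv huv, neg_neg]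

theorem swap_upT (x : kfix σ) (h : upT x ∈ planeK M u v) : lowS (-x) ∈ planeK M v (-u) := by
  obtain ⟨m, hm, h1, h2, h3⟩ := h
  refine ⟨m, hm, ?_, ?_, fun y hy1 hy2 => h3 y (by simpa using hy2) hy1⟩
  · rw [map_neg, h2]; simp [lowS, upT]
  · rw [h1]; simp [lowS, upT]

variable {r : ℕ} (hr : r.Prime) (hr3 : 3 ≤ r) (hcard : Fintype.card F = Nat.card F₀ ^ r)
include hr hr3 hcard

/-- An irrational transvection at one end gives all at the other, outside the field with four elements. -/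
theorem full_of_pair (hq : (2 : F) ≠ 0 ∨ ∃ c ∈ F₀, σ c = c ∧ c ≠ 0 ∧ c ≠ 1)
    (hu : ∀ s ∈ F₀, σ s = s → hR.hTv u s ∈ M) {t : F} (ht : σ t = t) (ht0 : t ∉ F₀)
    (hv : hR.hTv v t ∈ M) {s : F} (hs : σ s = s) : hR.hTv u s ∈ M := by
  classical
  haveI : Fintype (kfix σ) := Fintype.ofFinite _
  have hc : Fintype.card (kfix σ) = Nat.card (krat F₀ σ) ^ r := by
    rw [← Nat.card_eq_fintype_card]; exact card_kfix hR hcard
  have hlow : ∀ c ∈ krat F₀ σ, lowS c ∈ planeK M u v := fun c hcm =>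
    lowS_mem_planeK hR huu hvv huv c (hu _ hcm c.2)
  have hup := upT_mem_planeK hR huu hvv huv (⟨t, ht⟩ : kfix σ) hv
  have hirr : -(⟨t, ht⟩ : kfix σ) ∉ krat F₀ σ := fun h => ht0 (mem_krat.1 (show (⟨t, ht⟩ : kfix σ) ∈ krat F₀ σ by simpa using neg_mem h))
  refine hTv_of_planeK hR huu hvv huv (⟨s, hs⟩ : kfix σ) ?_
  by_cases h2 : (2 : F) = 0
  · obtain ⟨c, hcF, hcf, hc0, hc1⟩ := hq.resolve_left (not_not_intro h2)
    have h2' : (2 : kfix σ) = 0 := Subtype.ext h2
    have h4 : 4 ≤ Nat.card (krat F₀ σ).toAddSubgroup := by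
      have h3 : 3 ≤ Nat.card (krat F₀ σ) := by
        let f : Fin 3 → krat F₀ σ := ![0, 1, ⟨⟨c, hcf⟩, hcF⟩]
        have hf : Function.Injective f := by
          intro a b e
          have e' := congrArg (fun z : krat F₀ σ => ((z : kfix σ) : F)) e
          fin_cases a <;> fin_cases b <;> simp [f, hc0, Ne.symm hc0, hc1, Ne.symm hc1] at e' ⊢
        simpa using Nat.card_le_card_of_injective f hf
      have heven : Nat.card (krat F₀ σ) % 2 = 0 := by
        haveI := Fintype.ofFinite (krat F₀ σ)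
        rw [Nat.card_eq_fintype_card]
        refine FiniteField.even_card_of_char_two (ringChar.eq_iff.2 (CharTwo.of_one_ne_zero_of_two_eq_zero one_ne_zero ?_))
        exact Subtype.ext h2'
      change 4 ≤ Nat.card (krat F₀ σ)
      omega
    rw [eq_top_two h2' hr hc _ (krat F₀ σ).toAddSubgroup (fun c hc => hc) h4 hlow hup
      (fun e => hirr (e ▸ zero_mem _)) ⟨1, one_mem (krat F₀ σ), by rwa [one_mul]⟩]
    trivial
  · exact lower_full_odd (fun e => h2 (congrArg Subtype.val e)) hr hr3 hc _ hlow hup hirr _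

/-- An irrational transvection at a rational end gives all at both ends. -/
theorem full_of_irr (hu : ∀ s ∈ F₀, σ s = s → hR.hTv u s ∈ M) (hv : ∀ s ∈ F₀, σ s = s → hR.hTv v s ∈ M)
    {t : F} (ht : σ t = t) (ht0 : t ∉ F₀) (htM : hR.hTv u t ∈ M) {s : F} (hs : σ s = s) :
    hR.hTv u s ∈ M ∧ hR.hTv v s ∈ M := by
  classical
  have huv' := pair_swap hR huu hvv huv
  have huu' : B (-u) (-u) = 0 := by simp [huu]
  by_cases h2 : (2 : F) = 0
  · haveI : Fintype (kfix σ) := Fintype.ofFinite _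
    have hc : Fintype.card (kfix σ) = Nat.card (krat F₀ σ) ^ r := by
      rw [← Nat.card_eq_fintype_card]; exact card_kfix hR hcard
    have h2' : (2 : kfix σ) = 0 := Subtype.ext h2
    let Λ : AddSubgroup (kfix σ) :=
      { carrier := {x | hR.hTv u (x : F) ∈ M}
        zero_mem' := by show hR.hTv u ((0 : kfix σ) : F) ∈ M; rw [ZeroMemClass.coe_zero, hR.hTv_zero]; exact M.one_mem
        add_mem' := fun {a b} ha hb => by
          show hR.hTv u ((a + b : kfix σ) : F) ∈ M
          rw [AddMemClass.coe_add, ← hR.hTv_mul huu (kfix_fixed a) (kfix_fixed b)]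
          exact mul_mem ha hb
        neg_mem' := fun {a} ha => by
          show hR.hTv u ((-a : kfix σ) : F) ∈ M
          rw [NegMemClass.coe_neg, ← hR.hTv_inv huu (kfix_fixed a)]
          exact inv_mem ha }
    have hkΛ : ∀ c ∈ krat F₀ σ, c ∈ Λ := fun c hcm => hu _ hcm c.2
    have h4 : 4 ≤ Nat.card Λ := by
      have hlt : (krat F₀ σ).toAddSubgroup < Λ :=
        lt_of_le_of_ne (fun c hc => hkΛ c hc) fun e => ht0 (show (⟨t, ht⟩ : kfix σ) ∈ krat F₀ σ from
          show _ ∈ (krat F₀ σ).toAddSubgroup from e ▸ (show (⟨t, ht⟩ : kfix σ) ∈ Λ from htM))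
      obtain ⟨d, hd⟩ := AddSubgroup.card_dvd_of_le hlt.le
      have hk2 : 2 ≤ Nat.card (krat F₀ σ).toAddSubgroup := (Finite.one_lt_card : 1 < Nat.card (krat F₀ σ))
      rcases d with _ | _ | d
      · rw [mul_zero] at hd; have := Nat.card_pos (α := Λ); omega
      · rw [zero_add, mul_one] at hd
        exact absurd (AddSubgroup.eq_of_le_of_card_ge hlt.le hd.le) hlt.ne
      · rw [hd]; exact (Nat.mul_le_mul hk2 (show 2 ≤ d + 1 + 1 by omega) : 2 * 2 ≤ _)
    have hup := upT_mem_planeK hR huu hvv huv (1 : kfix σ) (hv _ (one_mem _) (map_one σ))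
    have htop := eq_top_two h2' hr hc (planeK M u v) Λ hkΛ h4
      (fun x hx => lowS_mem_planeK hR huu hvv huv x hx) hup (neg_ne_zero.2 one_ne_zero)
      ⟨⟨t, ht⟩, htM, fun h => ht0 (mem_krat.1 (show (⟨t, ht⟩ : kfix σ) ∈ krat F₀ σ by simpa using neg_mem h))⟩
    refine ⟨hTv_of_planeK hR huu hvv huv (⟨s, hs⟩ : kfix σ) (by rw [htop]; trivial), ?_⟩
    have h := hTv_of_planeK hR hvv huu' huv' (-(-(⟨s, hs⟩ : kfix σ)))
      (swap_upT hR huu hvv huv (-(⟨s, hs⟩ : kfix σ)) (by rw [htop]; trivial))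
    simpa using h
  · have hfull : ∀ {s}, σ s = s → hR.hTv v s ∈ M := fun {s} hs =>
      full_of_pair hR hvv huu' huv' hr hr3 hcard (Or.inl h2) hv ht ht0 (by rw [hTv_neg hR huu ht]; exact htM) hs
    exact ⟨full_of_pair hR huu hvv huv hr hr3 hcard (Or.inl h2) hu ht ht0 (hfull ht) hs, hfull hs⟩

end CfsgLib.Classical.GeoThree.SU.Sub
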