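import Cfsg.Agent.Lib.Classical.GeoThree.SU.Sub.Basic
import Cfsg.Agent.Lib.Classical.HermTransv
import Cfsg.Agent.Lib.Involution.ZStar.Main

/-!
# The subfield with four elements

Two distinct commuting conjugates of a rational transvection give an irrational transvection at a rational point;
without them the transvection is central modulo the odd core, which then preserves the rational structure.
-/

set_option autoImplicit false
set_option linter.unusedSectionVars false
set_option linter.unusedSimpArgs false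
set_option linter.style.haveILetI false
set_option backward.isDefEq.respectTransparency false

open Module

namespace CfsgLib.Classical.GeoThree.SU.Sub

open SubfieldMax (IsHFrame coe_smul_eq smul_mem')
open GeoFour.SU.SubTop (hTv_smul)

variable {F : Type*} [Field F] [Fintype F] {V : Type*} [AddCommGroup V] [Module F V] [FiniteDimensional F V]
  {σ : F →+* F} {F₀ : Subfield F} {B : V →ₛₗ[σ] V →ₗ[F] F} {V₀ : Submodule F₀ V} {ε : F}

/-- Isometries preserving the rational structure up to a scalar. -/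
def Pres (V₀ : Submodule F₀ V) (g : isomGroup B) : Prop := ∃ s : F, s ≠ 0 ∧ ∀ f ∈ V₀, s • g.1 f ∈ V₀

theorem Pres.mul {g g' : isomGroup B} (h : Pres V₀ g) (h' : Pres V₀ g') : Pres V₀ (g * g') := by
  obtain ⟨s, hs0, hs⟩ := h
  obtain ⟨s', hs0', hs'⟩ := h'
  refine ⟨s * s', mul_ne_zero hs0 hs0', fun f hf => ?_⟩
  have h := hs _ (hs' f hf)
  rwa [map_smul, smul_smul] at h

theorem isom_smul_ext {a x f : V} (hdec : ∀ z : V, ∃ p q r : F, z = p • a + q • x + r • f) {g : isomGroup B} {l : F}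
    (ha : g.1 a = l • a) (hx : g.1 x = l • x) (hf : g.1 f = l • f) (z : V) : g.1 z = l • z := by
  obtain ⟨p, q, r, rfl⟩ := hdec z
  rw [map_add, map_add, map_smul, map_smul, map_smul, ha, hx, hf]
  module

/-- The unipotent shape with respect to a flag. -/
def Shape (a x f : V) (g : isomGroup B) : Prop :=
  g.1 a = a ∧ ∃ p p' p'' : F, g.1 x = x + p • a ∧ g.1 f = f + p' • x + p'' • a

theorem Shape.mul {a x f : V} {g g' : isomGroup B} (h : Shape a x f g) (h' : Shape a x f g') :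
    Shape a x f (g * g') := by
  obtain ⟨ha, p, p', p'', hx, hf⟩ := h
  obtain ⟨ha', t, t', t'', hx', hf'⟩ := h'
  refine ⟨by rw [Subgroup.coe_mul, LinearEquiv.mul_apply, ha', ha], p + t, p' + t', p'' + t' * p + t'', ?_, ?_⟩
  all_goals simp only [Subgroup.coe_mul, LinearEquiv.mul_apply, hx', hf', map_add, map_smul, ha, hx, hf]
  all_goals module

variable (hR : IsHFrame B V₀ ε)
include hR

theorem eps_eq_one (h2 : (2 : F) = 0) (hk : ∀ c ∈ F₀, σ c = c → c = 0 ∨ c = 1) : ε = 1 :=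
  (hk ε hR.eps_mem (by rw [hR.eps_tr]; linear_combination (-ε) * h2)).resolve_left hR.eps_ne

theorem rat_mem {M : Subgroup (isomGroup B)} (hM : ∀ g, idet B g = 1 → Pres V₀ g → g ∈ M) :
    SubfieldMax.RatHTv hR M := fun u hu huu t ht htf =>
  hM _ (hR.herm.idet_uTv (hR.hTv_isUTv huu htf)) ⟨1, one_ne_zero, fun f hf => by
    rw [one_smul, hR.hTv_apply huu htf]
    exact add_mem hf (smul_mem' (mul_mem (mul_mem hR.eps_mem ht) (hR.form u hu f hf)) hu)⟩

variable (h3 : finrank F V = 3) {r : ℕ} (hr : r.Prime) (hr3 : 3 ≤ r) (hcard : Fintype.card F = Nat.card F₀ ^ r)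
  (h2 : (2 : F) = 0) (hk : ∀ c ∈ F₀, σ c = c → c = 0 ∨ c = 1)
  {M : Subgroup (isomGroup B)} (hM : ∀ g, idet B g = 1 → Pres V₀ g → g ∈ M)
  (hno : ∀ a : V₀, a ≠ 0 → B (a : V) (a : V) = 0 → ∀ t, σ t = t → hR.hTv (a : V) t ∈ M → t ∈ F₀)
include h3 hr hr3 hcard h2 hk hM hno

/-- Commuting conjugates of a rational transvection are equal. -/
theorem comm_eq {a : V₀} (haa : B (a : V) (a : V) = 0) (ha : a ≠ 0) {g : isomGroup B} (hg : g ∈ M)
    (hc : Commute (g * hR.hTv (a : V) 1 * g⁻¹) (hR.hTv (a : V) 1)) :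
    g * hR.hTv (a : V) 1 * g⁻¹ = hR.hTv (a : V) 1 := by
  have hMrat := rat_mem hR hM
  have htM := hMrat _ a.2 haa 1 (one_mem _) (map_one σ)
  have hdM : g * hR.hTv (a : V) 1 * g⁻¹ ∈ M := mul_mem (mul_mem hg htM) (inv_mem hg)
  rw [hR.conj_hTv g haa (map_one σ)] at hc hdM ⊢
  set y := g.1 (a : V) with hy
  have hyy : B y y = 0 := by rw [hy, isomGroup_apply, haa]
  have ha0 : (a : V) ≠ 0 := fun e => ha (Subtype.ext e)
  have hy0 : y ≠ 0 := fun e => ha0 (g.1.map_eq_zero_iff.1 e)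
  have h1 : hR.hTv (a : V) 1 * hR.hTv y 1 * (hR.hTv (a : V) 1)⁻¹ = hR.hTv y 1 := by
    rw [← hc.eq, mul_inv_cancel_right]
  rw [hR.conj_hTv _ hyy (map_one σ)] at h1
  set y' := (hR.hTv (a : V) 1).1 y with hy'
  have hy'y' : B y' y' = 0 := by rw [hy', isomGroup_apply, hyy]
  obtain ⟨z, hz⟩ : ∃ z, B y z ≠ 0 := by
    by_contra hall
    push Not at hall
    exact hy0 (hR.nondeg _ fun z => hR.symm_zero (hall z))
  have h4 := congrArg (fun m : isomGroup B => m.1 z) h1
  simp only [hR.hTv_apply hy'y' (map_one σ), hR.hTv_apply hyy (map_one σ), add_right_inj, mul_one] at h4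
  have hay : B (a : V) y = 0 := by
    by_contra hne
    set c := B (a : V) y with hcdef
    set p := ε * B y' z
    set q := ε * B y z
    have hq : q ≠ 0 := mul_ne_zero hR.eps_ne hz
    have e : y' = y + (ε * c) • (a : V) := by rw [hy', hR.hTv_apply haa (map_one σ), mul_one]
    rw [e, smul_add, smul_smul] at h4
    have hp : p ≠ 0 := fun h0 => by
      rw [h0, zero_smul, zero_mul, zero_smul, add_zero] at h4
      exact smul_ne_zero hq hy0 h4.symm
    have h5 : (p * (ε * c)) • (a : V) = (q - p) • y := by rw [sub_smul, ← h4]; abel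
    have hk0 : p * (ε * c) ≠ 0 := mul_ne_zero hp (mul_ne_zero hR.eps_ne hne)
    have h6 : (a : V) = ((p * (ε * c))⁻¹ * (q - p)) • y := by
      rw [← smul_smul, ← h5, smul_smul, inv_mul_cancel₀ hk0, one_smul]
    apply hne
    rw [hcdef, h6, map_smulₛₗ, LinearMap.smul_apply, hyy, smul_zero]
  obtain ⟨l, hl⟩ := iso_perp hR h3 haa ha hyy hay
  have hl0 : l ≠ 0 := fun e => hy0 (by rw [hl, e, zero_smul])
  rw [hl, hTv_smul hR haa l (map_one σ), one_mul] at hdM ⊢
  have hfix : σ (l * σ l) = l * σ l := hR.herm.conj.norm_fixed l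
  rw [(hk _ (hno a ha haa _ hfix hdM) hfix).resolve_left (mul_ne_zero hl0 ((map_ne_zero σ).2 hl0))]

/-- An odd normal subgroup containing the commutators with a rational transvection. -/
theorem exists_core {a : V₀} (haa : B (a : V) (a : V) = 0) (ha : a ≠ 0) :
    ∃ N : Subgroup (isomGroup B), N ≤ M ∧ Odd (Nat.card N) ∧ (∀ g ∈ M, ∀ n ∈ N, g * n * g⁻¹ ∈ N) ∧
      ∀ g ∈ M, hR.hTv (a : V) 1 * g * (hR.hTv (a : V) 1)⁻¹ * g⁻¹ ∈ N := by
  classical
  haveI : Finite V := Module.finite_of_finite F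
  haveI : Finite (V ≃ₗ[F] V) := Finite.of_injective (fun g => (g : V → V)) DFunLike.coe_injective
  set t : M := ⟨hR.hTv (a : V) 1, rat_mem hR hM _ a.2 haa 1 (one_mem _) (map_one σ)⟩ with ht
  obtain ⟨f, x, hff, haf, -⟩ := exists_triple hR h3 haa ha
  have htt : t * t = 1 := Subtype.ext (by
    change hR.hTv (a : V) 1 * hR.hTv (a : V) 1 = 1
    rw [hR.hTv_mul haa (map_one σ) (map_one σ), show (1 : F) + 1 = 0 by rw [one_add_one_eq_two, h2], hR.hTv_zero])
  have ht1 : t ≠ 1 := fun e => by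
    have h := congrArg (fun m : M => (m : isomGroup B).1 (f : V)) e
    simp [ht, hR.hTv_apply haa (map_one σ), haf, hR.eps_ne] at h
    exact ha h
  have hord : orderOf t = 2 := orderOf_eq_prime (by rw [pow_two, htt]) ht1
  haveI : Fact (Nat.Prime 2) := ⟨Nat.prime_two⟩
  obtain ⟨P, hP⟩ := IsPGroup.exists_le_sylow (p := 2) (P := Subgroup.zpowers t)
    (IsPGroup.of_card (n := 1) (by rw [pow_one, Nat.card_zpowers, hord]))
  have htP : t ∈ P := hP (Subgroup.mem_zpowers t)
  have hcomm : ∀ k : M, Commute (k * t * k⁻¹) t → k * t * k⁻¹ = t := fun k hk' => Subtype.ext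
    (comm_eq hR h3 hr hr3 hcard h2 hk hM hno haa ha k.2 (congrArg Subtype.val hk'.eq))
  have htinv : t⁻¹ = t := inv_eq_of_mul_eq_one_right htt
  obtain ⟨N, hN, hodd, hNt⟩ := CfsgLib.Involution.ZStar.exists_odd_normal_of_sylow P hord htP fun g hg => by
    set d := g * t * g⁻¹ with hd
    by_contra hne
    have hdd : d * d = 1 := by rw [hd]; simp [mul_assoc, ← mul_assoc t t, htt]
    have hdinv : d⁻¹ = d := inv_eq_of_mul_eq_one_right hdd
    set R := t * d with hRdef
    have hRP : R ∈ P := mul_mem htP hg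
    obtain ⟨m, hm⟩ := IsPGroup.iff_orderOf.1 P.isPGroup' ⟨R, hRP⟩
    rw [← Subgroup.orderOf_coe] at hm
    change orderOf R = 2 ^ m at hm
    have hflip : t * R * t⁻¹ = R⁻¹ := by
      rw [hRdef, mul_inv_rev, hdinv, htinv, ← mul_assoc t t, htt, one_mul]
    match m, hm with
    | 0, hm =>
      rw [pow_zero, orderOf_eq_one_iff] at hm
      exact hne (by rw [← one_mul d, ← htt, mul_assoc, ← hRdef, hm, mul_one])
    | 1, hm =>
      have hR2 : R * R = 1 := by rw [← pow_two, ← orderOf_dvd_iff_pow_eq_one, hm, pow_one]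
      refine hne (hcomm g ?_)
      have hRi : R⁻¹ = R := inv_eq_of_mul_eq_one_right hR2
      rw [hRdef, mul_inv_rev, hdinv, htinv] at hRi
      exact hRi
    | m + 2, hm =>
      set i := 2 ^ m
      set z := R ^ (2 * i) with hz
      have hz1 : z ≠ 1 := pow_ne_one_of_lt_orderOf (by simp [i])
        (by rw [hm, show 2 * i = 2 ^ (m + 1) by rw [pow_succ, mul_comm]]; exact Nat.pow_lt_pow_right (by norm_num) (by omega))
      have hflipi : t * R ^ i * t⁻¹ = (R ^ i)⁻¹ := by rw [← conj_pow, hflip, inv_pow]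
      have hconj : (R ^ i)⁻¹ * t * (R ^ i)⁻¹⁻¹ = t * z := by
        have h1 : (R ^ i)⁻¹ * t = t * R ^ i := by rw [← hflipi, inv_mul_cancel_right]
        rw [inv_inv, h1, mul_assoc, ← pow_add, ← two_mul]
      have hzz : z * z = 1 := by
        rw [hz, ← pow_add, ← orderOf_dvd_iff_pow_eq_one, hm]
        exact ⟨1, by simp [i, pow_succ]; ring⟩
      have hzi : z⁻¹ = z := inv_eq_of_mul_eq_one_right hzz
      have hflipz : t * z * t⁻¹ = z := by rw [hz, ← conj_pow, hflip, inv_pow, ← hz, hzi]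
      have h := hcomm (R ^ i)⁻¹ (by
        rw [hconj]
        change t * z * t = t * (t * z)
        rw [← mul_assoc t t, htt, one_mul]
        conv_rhs => rw [← hflipz, htinv])
      rw [hconj, mul_eq_left] at h
      exact hz1 h
  refine ⟨N.map M.subtype, Subgroup.map_subtype_le N, ?_, ?_, fun g hg => ?_⟩
  · rwa [Subgroup.card_map_of_injective M.subtype_injective]
  · rintro g hg _ ⟨n, hn, rfl⟩
    exact ⟨⟨g, hg⟩ * n * ⟨g, hg⟩⁻¹, hN.conj_mem n hn _, rfl⟩
  · exact ⟨_, hNt ⟨g, hg⟩, rfl⟩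

/-- In the odd core only scalars commute with the transvection. -/
theorem scalar_of_comm {a : V₀} (haa : B (a : V) (a : V) = 0) (ha : a ≠ 0) {N : Subgroup (isomGroup B)}
    (hodd : Odd (Nat.card N)) (hconj : ∀ g ∈ M, ∀ n ∈ N, g * n * g⁻¹ ∈ N)
    {n : isomGroup B} (hn : n ∈ N) (hc : Commute n (hR.hTv (a : V) 1)) : ∃ l : F, ∀ z, n.1 z = l • z := by
  obtain ⟨f, x, hff, haf, hfa, hax, hxa, hfx, hxf, hxx, hdec⟩ := exists_triple hR h3 haa ha
  have hx1 : B (x : V) (x : V) = 1 :=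
    (hk _ (hR.form _ x.2 _ x.2) (hR.herm.self_fixed _)).resolve_left hxx
  simp only [hx1, div_one] at hdec
  have hdec' : ∀ z : V, ∃ p q r : F, z = p • (a : V) + q • (x : V) + r • (f : V) := fun z =>
    ⟨B (f : V) z, B (x : V) z, B (a : V) z, (hdec z).trans (by abel)⟩
  obtain ⟨η, hη⟩ := hR.conj₀.exists_trace_eq (a := 1) (map_one _)
  have hη' : (η : F) + σ (η : F) = 1 := by simpa [hR.sig₀_coe] using congrArg (Subtype.val : F₀ → F) hη
  have hli : ∀ {p q s : V}, B p p = 0 → B s s = 0 → B q q = 1 → B p q = 0 → B q p = 0 → B s q = 0 → B q s = 0 →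
      B p s = 1 → B s p = 1 → LinearIndependent F ![p, q, s] := by
    intro p q s h1 h4 h5 h6 h7 h8 h9 h10 h11
    refine Fintype.linearIndependent_iff.2 fun c hc i => ?_
    simp [Fin.sum_univ_three] at hc
    have e1 := congrArg (B p) hc
    have e2 := congrArg (B q) hc
    have e3 := congrArg (B s) hc
    simp [h1, h4, h5, h6, h7, h8, h9, h10, h11] at e1 e2 e3
    fin_cases i <;> assumption
  set x' := (x : V) + (a : V) with hx'
  set f' := (f : V) + (x : V) + (η : F) • (a : V) with hf'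
  have g1 : B x' x' = 1 := by simp [hx', hx1, hxa, hax, haa]
  have g2 : B f' f' = 0 := by
    simp [hf', hff, hx1, haa, hfx, hxf, hfa, haf, hax, hxa]
    linear_combination hη' + h2
  have g3 : B (a : V) x' = 0 := by simp [hx', hax, haa]
  have g4 : B x' (a : V) = 0 := by simp [hx', hxa, haa]
  have g5 : B f' x' = 0 := by
    simp [hf', hx', hx1, haa, hfx, hxf, hfa, haf, hax, hxa]
    linear_combination h2
  have g6 : B x' f' = 0 := hR.symm_zero g5
  have g7 : B (a : V) f' = 1 := by simp [hf', haf, hax, haa]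
  have g8 : B f' (a : V) = 1 := by simp [hf', hfa, hxa, haa]
  obtain ⟨h, hh⟩ := hR.herm.witt_family hR.nondeg (a := ![(a : V), x, f]) (b := ![(a : V), x', f'])
    (hli haa hff hx1 hax hxa hfx hxf haf hfa) (hli haa g2 g1 g3 g4 g5 g6 g7 g8)
    (by intro i j; fin_cases i <;> fin_cases j <;>
          simp [haa, hff, hx1, hax, hxa, hfx, hxf, haf, hfa, g1, g2, g3, g4, g5, g6, g7, g8])
  have hha : h.1 (a : V) = a := hh 0
  have hhx : h.1 (x : V) = x' := hh 1
  have hhf : h.1 (f : V) = f' := hh 2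
  have hshape : Shape (a : V) (x : V) (f : V) h :=
    ⟨hha, 1, 1, η, by rw [hhx, one_smul], by rw [hhf, one_smul]⟩
  -- the fourth power of a unipotent shape is trivial
  have hfour : ∀ {g : isomGroup B}, Shape (a : V) (x : V) (f : V) g → g ^ 4 = 1 := by
    rintro g ⟨hga, p, p', p'', hgx, hgf⟩
    refine Subtype.ext (LinearEquiv.ext fun z => ?_)
    rw [show g ^ 4 = g * g * (g * g) by simp [pow_succ, mul_assoc]]
    change g.1 (g.1 (g.1 (g.1 z))) = z
    obtain ⟨c₁, c₂, c₃, rfl⟩ := hdec' z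
    simp only [map_add, map_smul, hga, hgx, hgf]
    match_scalars
    all_goals first
      | ring1
      | linear_combination (2 * (p * c₂ + p' * c₃ * p + p'' * c₃) + c₃ * p * p') * h2
      | linear_combination (2 * p' * c₃) * h2
  have hdeth : idet B h = 1 := by
    have h1 := congrArg (idet B) (hfour hshape)
    rw [map_pow, map_one] at h1
    set d := idet B h
    have h4 : (d - 1) ^ 4 = 0 := by linear_combination h1 + (-(2 * d ^ 3) + 3 * d ^ 2 - 2 * d + 1) * h2
    exact sub_eq_zero.1 (pow_eq_zero_iff (by norm_num) |>.1 h4)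
  have hhM : h ∈ M := hM h hdeth ⟨1, one_ne_zero, fun z hz => by
    rw [one_smul, hdec z, map_add, map_add, map_smul, map_smul, map_smul, hha, hhx, hhf, hx', hf']
    exact add_mem (add_mem (smul_mem' (hR.form _ f.2 _ hz) a.2)
      (smul_mem' (hR.form _ a.2 _ hz) (add_mem (add_mem f.2 x.2) (smul_mem' η.2 a.2))))
      (smul_mem' (hR.form _ x.2 _ hz) (add_mem x.2 a.2))⟩
  -- the shape of `n`
  have hnt : hR.hTv (n.1 (a : V)) 1 = hR.hTv (a : V) 1 := by
    rw [← hR.conj_hTv n haa (map_one σ), hc.eq, mul_inv_cancel_right]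
  set y := n.1 (a : V) with hy
  have hyy : B y y = 0 := by rw [hy, isomGroup_apply, haa]
  have hε := eps_eq_one hR h2 hk
  have h4 := congrArg (fun m : isomGroup B => m.1 (f : V)) hnt
  rw [hR.hTv_apply hyy (map_one σ), hR.hTv_apply haa (map_one σ), add_right_inj, haf] at h4
  simp only [hε, one_mul, one_smul, mul_one] at h4
  set c := B y (f : V) with hcdef
  have hc0 : c ≠ 0 := fun e => by
    rw [e, zero_smul] at h4
    exact ha (Subtype.ext h4.symm)
  set l := c⁻¹ with hldef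
  have hyl : y = l • (a : V) := by rw [← h4, hldef, smul_smul, inv_mul_cancel₀ hc0, one_smul]
  have hl0 : l ≠ 0 := inv_ne_zero hc0
  have hNl : l * σ l = 1 := by
    have e : c = σ l := by rw [hcdef, hyl, map_smulₛₗ, LinearMap.smul_apply, haf, smul_eq_mul, mul_one]
    rw [← e, hldef, inv_mul_cancel₀ hc0]
  have hnx0 : B (a : V) (n.1 (x : V)) = 0 := by
    have h1 := isomGroup_apply n (a : V) (x : V)
    rw [← hy, hyl, map_smulₛₗ, LinearMap.smul_apply, hax, smul_eq_mul] at h1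
    exact (mul_eq_zero.1 h1).resolve_left ((map_ne_zero σ).2 hl0)
  have hnfl : B (a : V) (n.1 (f : V)) = l := by
    have h1 := isomGroup_apply n (a : V) (f : V)
    rw [← hy, hyl, map_smulₛₗ, LinearMap.smul_apply, haf, smul_eq_mul] at h1
    linear_combination l * h1 - B (a : V) (n.1 (f : V)) * hNl
  set μ := B (x : V) (n.1 (x : V))
  set ν := B (f : V) (n.1 (x : V))
  set θ := B (x : V) (n.1 (f : V))
  set ρ := B (f : V) (n.1 (f : V))
  have hnx : n.1 (x : V) = ν • (a : V) + μ • (x : V) := by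
    conv_lhs => rw [hdec (n.1 (x : V)), hnx0, zero_smul, add_zero]
  have hnf : n.1 (f : V) = ρ • (a : V) + l • (f : V) + θ • (x : V) := by
    conv_lhs => rw [hdec (n.1 (f : V)), hnfl]
  have hμ0 : μ ≠ 0 := fun e => by
    have h1 := isomGroup_apply n (x : V) (x : V)
    rw [hnx, e, zero_smul, add_zero, hx1, hR.herm.smul_self, haa, mul_zero] at h1
    exact zero_ne_one h1
  clear_value l μ ν θ ρ
  set k := n * h * n⁻¹ with hkdef
  have hka : k.1 (a : V) = a := by
    have h1 : k.1 (n.1 (a : V)) = n.1 (h.1 (a : V)) := by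
      rw [hkdef]; simp [LinearEquiv.mul_apply]
    rw [hha, ← hy, hyl, map_smul] at h1
    exact smul_right_injective V hl0 h1
  have hkx : k.1 (x : V) = (x : V) + (l / μ) • (a : V) := by
    have h1 : k.1 (n.1 (x : V)) = n.1 (h.1 (x : V)) := by
      rw [hkdef]; simp [LinearEquiv.mul_apply]
    rw [hhx, hx', map_add, ← hy, hyl, hnx, map_add, map_smul, map_smul, hka] at h1
    refine smul_right_injective V hμ0 ?_
    change μ • k.1 (x : V) = μ • _
    rw [smul_add, smul_smul, mul_div_cancel₀ _ hμ0]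
    calc μ • k.1 (x : V) = ν • (a : V) + μ • (x : V) + l • (a : V) - ν • (a : V) := by rw [← h1]; abel
      _ = _ := by abel
  obtain ⟨p', p'', hkf⟩ : ∃ p' p'' : F, k.1 (f : V) = (f : V) + p' • (x : V) + p'' • (a : V) := by
    have h1 : k.1 (n.1 (f : V)) = n.1 (h.1 (f : V)) := by
      rw [hkdef]; simp [LinearEquiv.mul_apply]
    rw [hhf, hf', map_add, map_add, map_smul, ← hy, hyl, hnx, hnf, map_add, map_add, map_smul, map_smul, map_smul,
      hka, hkx] at h1
    refine ⟨μ / l, (ν + η * l - θ * (l / μ)) / l, smul_right_injective V hl0 ?_⟩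
    change l • k.1 (f : V) = l • _
    rw [smul_add, smul_add, smul_smul, smul_smul, mul_div_cancel₀ _ hl0, mul_div_cancel₀ _ hl0]
    calc l • k.1 (f : V) = ρ • (a : V) + l • (f : V) + θ • (x : V) + (ν • (a : V) + μ • (x : V)) +
          (η : F) • (l • (a : V)) - ρ • (a : V) - θ • ((x : V) + (l / μ) • (a : V)) := by rw [← h1]; abel
      _ = _ := by module
  have hcN : k * h⁻¹ ∈ N := by
    have h1 := mul_mem hn (hconj h hhM _ (inv_mem hn))
    rwa [show n * (h * n⁻¹ * h⁻¹) = k * h⁻¹ by rw [hkdef]; group] at h1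
  have hh4 := hfour hshape
  have hkh : k * h⁻¹ = 1 := by
    have hs : Shape (a : V) (x : V) (f : V) (k * h⁻¹) := by
      rw [show h⁻¹ = h * h * h from inv_eq_of_mul_eq_one_right (by rw [← hh4]; simp [pow_succ, mul_assoc])]
      exact Shape.mul ⟨hka, _, p', p'', hkx, hkf⟩ (hshape.mul hshape |>.mul hshape)
    have h1 := Subgroup.orderOf_dvd_natCard N hcN
    have h5 : orderOf (k * h⁻¹) ∣ 2 ^ 2 := orderOf_dvd_of_pow_eq_one (hfour hs)
    have h6 : Nat.Coprime (Nat.card N) (2 ^ 2) := (Nat.coprime_two_right.2 hodd).pow_right 2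
    exact orderOf_eq_one_iff.1 (Nat.eq_one_of_dvd_coprimes h6 h1 h5)
  have hμl : μ = l := by
    have h1 := congrArg (fun m : isomGroup B => B (f : V) (m.1 (x : V))) (mul_inv_eq_one.1 hkh)
    simp [hkx, hhx, hx', hfx, hfa] at h1
    field_simp at h1
    exact h1.symm
  -- the fourth power of `n` is scalar
  have hn4 : ∀ z, (n ^ 4).1 z = l ^ 4 • z := by
    intro z
    rw [show n ^ 4 = n * n * (n * n) by simp [pow_succ, mul_assoc]]
    change n.1 (n.1 (n.1 (n.1 z))) = _
    obtain ⟨c₁, c₂, c₃, rfl⟩ := hdec' z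
    rw [hμl] at hnx
    simp only [map_add, map_smul, ← hy, hyl, hnx, hnf]
    match_scalars
    all_goals first
      | ring1
      | linear_combination (l ^ 2 * (2 * l * ν * c₂ + 2 * l * ρ * c₃ + 3 * ν * θ * c₃)) * h2
      | linear_combination (2 * l ^ 3 * θ * c₃) * h2
  have hcop : Nat.Coprime 4 (orderOf n) := by
    have h1 : Odd (orderOf n) := hodd.of_dvd_nat (Subgroup.orderOf_dvd_natCard N hn)
    exact (Nat.coprime_two_left.2 h1).pow_left 2
  obtain ⟨j, hj⟩ := exists_pow_eq_self_of_coprime hcop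
  refine ⟨(l ^ 4) ^ j, fun z => ?_⟩
  conv_lhs => rw [← hj]
  clear hj hcop
  induction j with
  | zero => simp
  | succ j ih =>
    rw [pow_succ', Subgroup.coe_mul, LinearEquiv.mul_apply, ih, hn4, smul_smul, ← pow_succ']

/-- Elements of the odd core commute up to scalars. -/
theorem comm_scalar {a : V₀} (haa : B (a : V) (a : V) = 0) (ha : a ≠ 0) {N : Subgroup (isomGroup B)}
    (hodd : Odd (Nat.card N)) (hconj : ∀ g ∈ M, ∀ n ∈ N, g * n * g⁻¹ ∈ N) {n m : isomGroup B} (hn : n ∈ N)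
    (hm : m ∈ N) : ∃ ζ : F, ∀ z, n.1 (m.1 z) = ζ • m.1 (n.1 z) := by
  classical
  haveI : Finite V := Module.finite_of_finite F
  haveI : Finite (V ≃ₗ[F] V) := Finite.of_injective (fun g => (g : V → V)) DFunLike.coe_injective
  set t := hR.hTv (a : V) 1 with ht
  have htM : t ∈ M := rat_mem hR hM _ a.2 haa 1 (one_mem _) (map_one σ)
  have htt : t * t = 1 := by
    rw [ht, hR.hTv_mul haa (map_one σ) (map_one σ), show (1 : F) + 1 = 0 by rw [one_add_one_eq_two, h2], hR.hTv_zero]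
  let Z : Subgroup N :=
    { carrier := {k | ∃ l : F, ∀ z, (k : isomGroup B).1 z = l • z}
      one_mem' := ⟨1, fun z => by simp⟩
      mul_mem' := by
        rintro k k' ⟨l, hl⟩ ⟨l', hl'⟩
        exact ⟨l' * l, fun z => by rw [Subgroup.coe_mul, Subgroup.coe_mul, LinearEquiv.mul_apply, hl', map_smul, hl, smul_smul]⟩
      inv_mem' := by
        rintro k ⟨l, hl⟩
        refine ⟨l⁻¹, fun z => ?_⟩
        by_cases hl0 : l = 0
        · have hz : ∀ z : V, z = 0 := fun z =>
            (k : isomGroup B).1.map_eq_zero_iff.1 (by rw [hl, hl0, zero_smul])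
          rw [hz (((k⁻¹ : N) : isomGroup B).1 z), hz z, smul_zero]
        change (k : isomGroup B).1.symm z = _
        rw [LinearEquiv.symm_apply_eq, hl, smul_smul, mul_inv_cancel₀ hl0, one_smul] }
  have hcen : ∀ k ∈ Z, ∀ p : N, p * k = k * p := by
    rintro k ⟨l, hl⟩ p
    refine Subtype.ext (Subtype.ext (LinearEquiv.ext fun z => ?_))
    change (p : isomGroup B).1 ((k : isomGroup B).1 z) = (k : isomGroup B).1 ((p : isomGroup B).1 z)
    rw [hl, hl, map_smul]
  haveI : Z.Normal := ⟨fun k hk p => by rwa [hcen k hk p, mul_inv_cancel_right]⟩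
  let θ : N →* N :=
    { toFun := fun p => ⟨t * p * t⁻¹, hconj t htM p p.2⟩
      map_one' := Subtype.ext (by simp)
      map_mul' := fun p p' => Subtype.ext (by simp [mul_assoc]) }
  have hθ2 : ∀ p, θ (θ p) = p := fun p => Subtype.ext (by
    change t * (t * p * t⁻¹) * t⁻¹ = _
    rw [inv_eq_of_mul_eq_one_right htt, ← mul_assoc, ← mul_assoc, htt, one_mul, mul_assoc, htt, mul_one])
  have hθZ : Z ≤ Z.comap θ := by
    rintro k ⟨l, hl⟩
    refine ⟨l, fun z => ?_⟩
    change t.1 ((k : isomGroup B).1 (t.1.symm z)) = _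
    rw [hl, map_smul, LinearEquiv.apply_symm_apply]
  let θb : (N ⧸ Z) →* (N ⧸ Z) := QuotientGroup.map Z Z θ hθZ
  have hinv : Function.Involutive θb := fun q => by
    induction q using QuotientGroup.induction_on with
    | H p => simp [θb, hθ2]
  have hfpf : MonoidHom.FixedPointFree θb := fun q hq => by
    induction q using QuotientGroup.induction_on with
    | H p =>
      simp only [θb, QuotientGroup.map_mk] at hq
      have hz : (θ p)⁻¹ * p ∈ Z := QuotientGroup.eq.1 hq
      set w := (θ p)⁻¹ * p with hw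
      have hθw : θ w = w⁻¹ := by rw [hw, map_mul, map_inv, hθ2, mul_inv_rev, inv_inv]
      have hwt : θ w = w := by
        refine Subtype.ext (Subtype.ext (LinearEquiv.ext fun z => ?_))
        obtain ⟨l, hl⟩ := hz
        change t.1 ((w : isomGroup B).1 (t.1.symm z)) = (w : isomGroup B).1 z
        rw [hl, hl, map_smul, LinearEquiv.apply_symm_apply]
      have hw2 : w ^ 2 = 1 := by
        rw [pow_two]
        nth_rewrite 1 [← hwt]
        rw [hθw, inv_mul_cancel]
      have hw1 : w = 1 := orderOf_eq_one_iff.1 (Nat.eq_one_of_dvd_coprimes (Nat.coprime_two_left.2 hodd)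
        (orderOf_dvd_of_pow_eq_one hw2) (orderOf_dvd_natCard w))
      have hp : θ p = p := by rwa [hw, inv_mul_eq_one] at hw1
      refine (QuotientGroup.eq_one_iff p).2 ?_
      have hcomm : Commute (p : isomGroup B) t := by
        have := congrArg (Subtype.val : N → isomGroup B) hp
        exact (mul_inv_eq_iff_eq_mul.1 this).symm
      exact scalar_of_comm hR h3 hr hr3 hcard h2 hk hM hno haa ha hodd hconj p.2 hcomm
  haveI : Finite (N ⧸ Z) := Quotient.finite _
  have hab := hfpf.commute_all_of_involutive hinv (QuotientGroup.mk ⟨n, hn⟩) (QuotientGroup.mk ⟨m, hm⟩)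
  have hmem : (⟨m, hm⟩ * ⟨n, hn⟩ : N)⁻¹ * (⟨n, hn⟩ * ⟨m, hm⟩) ∈ Z := QuotientGroup.eq.1 hab.eq.symm
  obtain ⟨l, hl⟩ := hmem
  refine ⟨l, fun z => ?_⟩
  have e := hl z
  change (m * n).1.symm (n.1 (m.1 z)) = _ at e
  rw [LinearEquiv.symm_apply_eq, Subgroup.coe_mul, LinearEquiv.mul_apply, map_smul, map_smul] at e
  exact e

/-- The odd core preserves the rational structure. -/
theorem pres_of_mem {a : V₀} (haa : B (a : V) (a : V) = 0) (ha : a ≠ 0) {N : Subgroup (isomGroup B)}
    (hodd : Odd (Nat.card N)) (hconj : ∀ g ∈ M, ∀ n ∈ N, g * n * g⁻¹ ∈ N)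
    (hNt : ∀ g ∈ M, hR.hTv (a : V) 1 * g * (hR.hTv (a : V) 1)⁻¹ * g⁻¹ ∈ N) {n : isomGroup B} (hn : n ∈ N) :
    Pres V₀ n := by
  classical
  obtain ⟨f, x, hff, haf, hfa, hax, hxa, hfx, hxf, hxx, hdec⟩ := exists_triple hR h3 haa ha
  have hx1 : B (x : V) (x : V) = 1 :=
    (hk _ (hR.form _ x.2 _ x.2) (hR.herm.self_fixed _)).resolve_left hxx
  simp only [hx1, div_one] at hdec
  have hε := eps_eq_one hR h2 hk
  obtain ⟨η₀, hη⟩ := hR.conj₀.exists_trace_eq (a := 1) (map_one _)
  set η := (η₀ : F) with hηdef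
  have hη' : η + σ η = 1 := by simpa [hR.sig₀_coe] using congrArg (Subtype.val : F₀ → F) hη
  have hση : σ η = 1 + η := by linear_combination hη' - η * h2
  have hη0 : η ≠ 0 := fun e => by rw [e, map_zero, add_zero] at hη'; exact zero_ne_one hη'
  have hη1 : η ≠ 1 := fun e => by
    rw [e, map_one] at hη'
    exact one_ne_zero (α := F) (by linear_combination -hη' + h2)
  have hηη : η * σ η = 1 :=
    (hk _ (mul_mem η₀.2 (hR.stable _ η₀.2)) (hR.herm.conj.norm_fixed η)).resolve_left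
      (mul_ne_zero hη0 ((map_ne_zero σ).2 hη0))
  set e0 : V := (x : V) with he0
  set e1 : V := η • (a : V) + (f : V) with he1
  set e2 : V := σ η • (a : V) + (f : V) with he2
  have m0 : e0 ∈ V₀ := x.2
  have m1 : e1 ∈ V₀ := add_mem (smul_mem' η₀.2 a.2) f.2
  have m2 : e2 ∈ V₀ := add_mem (smul_mem' (hR.stable _ η₀.2) a.2) f.2
  have b00 : B e0 e0 = 1 := hx1
  have b11 : B e1 e1 = 1 := by simp [he1, haa, hff, haf, hfa]; linear_combination hη'
  have b22 : B e2 e2 = 1 := by simp [he2, haa, hff, haf, hfa, hR.invol]; linear_combination hη'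
  have b01 : B e0 e1 = 0 := by simp [he1, hxa, hxf]
  have b02 : B e0 e2 = 0 := by simp [he2, hxa, hxf]
  have b12 : B e1 e2 = 0 := by
    simp [he1, he2, haa, hff, haf, hfa]
    linear_combination (σ η) * h2
  have b10 := hR.symm_zero b01
  have b20 := hR.symm_zero b02
  have b21 := hR.symm_zero b12
  have ha12 : (a : V) = e1 + e2 := by
    rw [he1, he2]
    match_scalars
    · linear_combination -hη'
    · linear_combination -h2
  have hdec' : ∀ z : V, z = B e0 z • e0 + B e1 z • e1 + B e2 z • e2 := fun z => by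
    conv_lhs => rw [hdec z]
    simp only [he0, he1, he2, map_add, map_smulₛₗ, LinearMap.add_apply, LinearMap.smul_apply, smul_eq_mul, hR.invol]
    match_scalars
    · linear_combination (-B (f : V) z) * hη' - (2 * η * σ η * B (a : V) z) * 1 + (2 * η * σ η * B (a : V) z) * 1 -
        (η * σ η * B (a : V) z) * h2
    · linear_combination (-B (a : V) z) * hη' - (B (f : V) z) * h2
    · ring
  clear_value e0 e1 e2
  -- the swaps
  have htM : hR.hTv (a : V) 1 ∈ M := rat_mem hR hM _ a.2 haa 1 (one_mem _) (map_one σ)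
  have hcomM : ∀ p : V, p ∈ V₀ → B p p = 0 → hR.hTv (a : V) 1 * hR.hTv p 1 * (hR.hTv (a : V) 1)⁻¹ *
      (hR.hTv p 1)⁻¹ ∈ N := fun p hp hpp => hNt _ (rat_mem hR hM _ hp hpp 1 (one_mem _) (map_one σ))
  have hinvol : ∀ p : V, B p p = 0 → (hR.hTv p 1)⁻¹ = hR.hTv p 1 := fun p hpp => by
    rw [hR.hTv_inv hpp (map_one σ), show -(1 : F) = 1 by linear_combination -h2]
  have htinv := hinvol _ haa
  have hap : ∀ p z : V, B p p = 0 → (hR.hTv p 1).1 z = z + B p z • p := fun p z hpp => by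
    rw [hR.hTv_apply hpp (map_one σ), hε, one_mul, one_mul]
  have two_v : ∀ v : V, v + v = 0 := fun v => by rw [← two_smul F v, h2, zero_smul]
  have t0 : (hR.hTv (a : V) 1).1 e0 = e0 := by rw [hap _ _ haa, ha12]; simp [b10, b20]
  have t1 : (hR.hTv (a : V) 1).1 e1 = e2 := by
    rw [hap _ _ haa, ha12]; simp [b11, b21]
    rw [← add_assoc, two_v, zero_add]
  have t2 : (hR.hTv (a : V) 1).1 e2 = e1 := by
    rw [hap _ _ haa, ha12]; simp [b12, b22]
    rw [add_left_comm, two_v, add_zero]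
  set p := e0 + e1 with hp
  have hpp : B p p = 0 := by simp [hp, b00, b01, b10, b11]; linear_combination h2
  have w0 : (hR.hTv p 1).1 e0 = e1 := by
    rw [hap _ _ hpp, hp]; simp [b00, b10]
    rw [← add_assoc, two_v, zero_add]
  have w1 : (hR.hTv p 1).1 e1 = e0 := by
    rw [hap _ _ hpp, hp]; simp [b01, b11]
    rw [add_left_comm, two_v, add_zero]
  have w2 : (hR.hTv p 1).1 e2 = e2 := by rw [hap _ _ hpp, hp]; simp [b02, b12]
  set p' := e1 + η • e2 with hp'
  have hpp' : B p' p' = 0 := by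
    simp [hp', b11, b12, b21, b22]
    linear_combination hηη + h2
  have v0 : (hR.hTv p' 1).1 e0 = e0 := by rw [hap _ _ hpp', hp']; simp [b10, b20]
  have v1 : (hR.hTv p' 1).1 e1 = η • e2 := by
    rw [hap _ _ hpp', hp']; simp [b11, b21]; match_scalars
    all_goals first | ring1 | linear_combination h2
  have v2 : (hR.hTv p' 1).1 e2 = σ η • e1 := by
    rw [hap _ _ hpp', hp']; simp [b12, b22]; match_scalars
    all_goals first | ring1 | linear_combination hηη + h2
  set A := hR.hTv (a : V) 1 * hR.hTv p 1 * (hR.hTv (a : V) 1)⁻¹ * (hR.hTv p 1)⁻¹ with hA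
  have hAN : A ∈ N := hcomM p (add_mem m0 m1) hpp
  set D := hR.hTv (a : V) 1 * hR.hTv p' 1 * (hR.hTv (a : V) 1)⁻¹ * (hR.hTv p' 1)⁻¹ with hD
  have hDN : D ∈ N := hcomM p' (add_mem m1 (smul_mem' η₀.2 m2)) hpp'
  rw [htinv, hinvol p hpp] at hA
  rw [htinv, hinvol p' hpp'] at hD
  have A0 : A.1 e0 = e1 := by simp [hA, w0, w1, w2, t0, t1, t2, LinearEquiv.mul_apply]
  have A1 : A.1 e1 = e2 := by simp [hA, w0, w1, w2, t0, t1, t2, LinearEquiv.mul_apply]
  have A2 : A.1 e2 = e0 := by simp [hA, w0, w1, w2, t0, t1, t2, LinearEquiv.mul_apply]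
  have hη2 : η * η = σ η := by
    rw [hση] at hηη
    linear_combination hηη - hση - η * h2
  have hσ2 : σ η * σ η = η := by rw [← map_mul, hη2, hR.invol]
  have D0 : D.1 e0 = e0 := by simp [hD, v0, t0, LinearEquiv.mul_apply]
  have D1 : D.1 e1 = σ η • e1 := by simp [hD, v1, v2, t1, t2, LinearEquiv.mul_apply, smul_smul, hη2]
  have D2 : D.1 e2 = η • e2 := by simp [hD, v1, v2, t1, t2, LinearEquiv.mul_apply, smul_smul, hσ2]
  clear_value A D
  obtain ⟨ζ, hζ⟩ := comm_scalar hR h3 hr hr3 hcard h2 hk hM hno haa ha hodd hconj hn hDN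
  obtain ⟨ζ', hζ'⟩ := comm_scalar hR h3 hr hr3 hcard h2 hk hM hno haa ha hodd hconj hn hAN
  -- the image of the first vector
  set y := n.1 e0 with hy
  set c0 := B e0 y
  set c1 := B e1 y
  set c2 := B e2 y
  have hy0 : y ≠ 0 := fun e => by
    have := n.1.map_eq_zero_iff.1 e
    rw [this] at b00
    simp at b00
  have hyd : y = c0 • e0 + c1 • e1 + c2 • e2 := hdec' y
  have h5 := hζ e0
  rw [D0, ← hy, hyd, map_add, map_add, map_smul, map_smul, map_smul, D0, D1, D2] at h5
  have k0 := congrArg (B e0) h5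
  have k1 := congrArg (B e1) h5
  have k2 := congrArg (B e2) h5
  simp [b00, b01, b02, b10, b11, b12, b20, b21, b22] at k0 k1 k2
  have hone : (∃ c : F, c ≠ 0 ∧ y = c • e0) ∨ (∃ c : F, c ≠ 0 ∧ y = c • e1) ∨ ∃ c : F, c ≠ 0 ∧ y = c • e2 := by
    have hne : ∀ {p q c d : F}, c = ζ * (c * p) → d = ζ * (d * q) → p ≠ q → c = 0 ∨ d = 0 := by
      intro p q c d h h' hpq
      by_contra hcd
      push Not at hcd
      have e1' : ζ * p = 1 := mul_left_cancel₀ hcd.1 (by linear_combination -h)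
      have e2' : ζ * q = 1 := mul_left_cancel₀ hcd.2 (by linear_combination -h')
      refine hpq (mul_left_cancel₀ (fun e : ζ = 0 => by simp [e] at e1') (e1'.trans e2'.symm))
    have hσ1 : σ η ≠ 1 := fun e => hη0 (by rw [hση] at e; linear_combination e)
    have hne' : σ η ≠ η := fun e => by
      rw [e] at hη'
      exact one_ne_zero (α := F) (by linear_combination -hη' + η * h2)
    have q01 := hne (p := 1) (q := σ η) (c := c0) (d := c1) (by simpa using k0) (by linear_combination k1) (Ne.symm hσ1)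
    have q02 := hne (p := 1) (q := η) (c := c0) (d := c2) (by simpa using k0) (by linear_combination k2) (Ne.symm hη1)
    have q12 := hne (p := σ η) (q := η) (c := c1) (d := c2) (by linear_combination k1) (by linear_combination k2) hne'
    by_cases hc0 : c0 = 0
    · by_cases hc1 : c1 = 0
      · rw [hc0, hc1, zero_smul, zero_smul, zero_add, zero_add] at hyd
        exact Or.inr (Or.inr ⟨c2, fun e => hy0 (by rw [hyd, e, zero_smul]), hyd⟩)
      · rw [hc0, q12.resolve_left hc1, zero_smul, zero_smul, zero_add, add_zero] at hyd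
        exact Or.inr (Or.inl ⟨c1, hc1, hyd⟩)
    · rw [q01.resolve_left hc0, q02.resolve_left hc0, zero_smul, zero_smul, add_zero, add_zero] at hyd
      exact Or.inl ⟨c0, hc0, hyd⟩
  obtain ⟨c, hc, u0, u1, u2, hu0, hu1, hu2, hyc, hA0, hA1, hA2⟩ : ∃ c : F, c ≠ 0 ∧ ∃ u0 u1 u2 : V, u0 ∈ V₀ ∧
      u1 ∈ V₀ ∧ u2 ∈ V₀ ∧ y = c • u0 ∧ A.1 u0 = u1 ∧ A.1 u1 = u2 ∧ A.1 u2 = u0 := by
    rcases hone with ⟨c, hc, h⟩ | ⟨c, hc, h⟩ | ⟨c, hc, h⟩
    · exact ⟨c, hc, e0, e1, e2, m0, m1, m2, h, A0, A1, A2⟩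
    · exact ⟨c, hc, e1, e2, e0, m1, m2, m0, h, A1, A2, A0⟩
    · exact ⟨c, hc, e2, e0, e1, m2, m0, m1, h, A2, A0, A1⟩
  have n1 : n.1 e1 = (ζ' * c) • u1 := by rw [← A0, hζ', ← hy, hyc, map_smul, hA0, smul_smul]
  have n2 : n.1 e2 = (ζ' * (ζ' * c)) • u2 := by rw [← A1, hζ', n1, map_smul, hA1, smul_smul]
  have hu00 : u0 ≠ 0 := fun e => hy0 (by rw [hyc, e, smul_zero])
  have n0 : y = (ζ' * (ζ' * (ζ' * c))) • u0 := by rw [hy, ← A2, hζ', n2, map_smul, hA2, smul_smul]
  have hz3 : ζ' * ζ' * ζ' = 1 := by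
    have := (smul_left_injective F hu00) (n0.symm.trans hyc)
    exact mul_right_cancel₀ hc (by linear_combination this)
  have hζF : ζ' ∈ F₀ := by
    rcases mul_eq_zero.1 (show (ζ' - 1) * (ζ' * ζ' + ζ' + 1) = 0 by linear_combination hz3) with h | h
    · rw [sub_eq_zero.1 h]; exact one_mem _
    · exact quad_mem F₀ hr hr3 hcard (one_mem F₀) (one_mem F₀) (by linear_combination h - (ζ' + 1) * h2)
  refine ⟨c⁻¹, inv_ne_zero hc, fun z hz => ?_⟩
  rw [hdec' z, map_add, map_add, map_smul, map_smul, map_smul, ← hy, hyc, n1, n2]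
  simp only [smul_add, smul_smul]
  refine add_mem (add_mem (smul_mem' ?_ hu0) (smul_mem' ?_ hu1)) (smul_mem' ?_ hu2)
  all_goals field_simp
  · exact hR.form _ m0 _ hz
  · exact mul_mem (hR.form _ m1 _ hz) hζF
  · exact mul_mem (hR.form _ m2 _ hz) (pow_mem hζF 2)

/-- Without irrational transvections at rational points, rational isotropic points stay rational. -/
theorem rational_image {a : V₀} (haa : B (a : V) (a : V) = 0) (ha : a ≠ 0) {g : isomGroup B} (hg : g ∈ M) :
    ∃ s : F, s ≠ 0 ∧ s • g.1 (a : V) ∈ V₀ := by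
  obtain ⟨N, hNM, hodd, hconj, hNt⟩ := exists_core hR h3 hr hr3 hcard h2 hk hM hno haa ha
  set t := hR.hTv (a : V) 1 with ht
  set y := g.1 (a : V) with hy
  have hyy : B y y = 0 := by rw [hy, isomGroup_apply, haa]
  have htt : t * t = 1 := by
    rw [ht, hR.hTv_mul haa (map_one σ) (map_one σ), show (1 : F) + 1 = 0 by rw [one_add_one_eq_two, h2], hR.hTv_zero]
  have hd : hR.hTv y 1 = t * (t * g * t⁻¹ * g⁻¹) := by
    rw [hy, ← hR.conj_hTv g haa (map_one σ), ← ht, inv_eq_of_mul_eq_one_right htt]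
    simp [← mul_assoc, htt]
  have hPt : Pres V₀ t := ⟨1, one_ne_zero, fun z hz => by
    rw [one_smul, ht, hR.hTv_apply haa (map_one σ)]
    exact add_mem hz (smul_mem' (mul_mem (mul_mem hR.eps_mem (one_mem _)) (hR.form _ a.2 _ hz)) a.2)⟩
  obtain ⟨s, hs0, hs⟩ : Pres V₀ (hR.hTv y 1) :=
    hd ▸ hPt.mul (pres_of_mem hR h3 hr hr3 hcard h2 hk hM hno haa ha hodd hconj hNt (hNt g hg))
  obtain ⟨f, x, hff, haf, hfa, hax, hxa, hfx, hxf, hxx, hdec⟩ := exists_triple hR h3 haa ha
  have hs2 : s * s ∈ F₀ := by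
    have h1 := hs _ (hs _ x.2)
    rw [map_smul, smul_smul, ← LinearEquiv.mul_apply, ← Subgroup.coe_mul, hR.hTv_mul hyy (map_one σ) (map_one σ),
      show (1 : F) + 1 = 0 by rw [one_add_one_eq_two, h2], hR.hTv_zero] at h1
    have h4 := hR.form _ x.2 _ h1
    rw [map_smul, smul_eq_mul] at h4
    simpa [hxx] using div_mem (show s * s * B (x : V) (x : V) ∈ F₀ from h4) (hR.form _ x.2 _ x.2)
  have hsF : s ∈ F₀ := quad_mem F₀ hr hr3 hcard (zero_mem F₀) hs2 (by ring)
  have hy0 : y ≠ 0 := fun e => ha (Subtype.ext (g.1.map_eq_zero_iff.1 e))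
  obtain ⟨z, hz, hyz⟩ : ∃ z ∈ V₀, B y z ≠ 0 := by
    by_contra hall
    push Not at hall
    exact hy0 (hR.sep fun z hz => hR.symm_zero (hall z hz))
  refine ⟨ε * B y z, mul_ne_zero hR.eps_ne hyz, ?_⟩
  have h1 := smul_mem' (inv_mem hsF) (hs z hz)
  rw [smul_smul, inv_mul_cancel₀ hs0, one_smul, hR.hTv_apply hyy (map_one σ), mul_one] at h1
  simpa using sub_mem h1 hz

end CfsgLib.Classical.GeoThree.SU.Sub
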