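import Cfsg.Agent.Lib.Classical.GeoThree.SU.Stab
import Cfsg.Agent.Lib.Classical.GeoThree.SU.Sub.Plane
import Cfsg.Agent.Lib.Classical.GeoThree.SU.Sub.Two
import Cfsg.Agent.Lib.Classical.GeoFour.SU.SubfieldOdd

/-!
# Subfield groups of odd prime index are maximal in `SU_3`
-/

set_option autoImplicit false
set_option linter.unusedSectionVars false
set_option linter.unusedSimpArgs false
set_option backward.isDefEq.respectTransparency false

open Module Matrix Cfsg

namespace CfsgLib.Classical.GeoThree.SU.Sub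

open SubfieldMax (IsHFrame coe_smul_eq smul_mem')
open GeoFour.SU.SubTop (hTv_smul)

variable {F : Type*} [Field F] [Fintype F] {V : Type*} [AddCommGroup V] [Module F V] [FiniteDimensional F V]
  {σ : F →+* F} {F₀ : Subfield F} {B : V →ₛₗ[σ] V →ₗ[F] F} {V₀ : Submodule F₀ V} {ε : F}

variable (hR : IsHFrame B V₀ ε) (h3 : finrank F V = 3) {r : ℕ} (hr : r.Prime) (hr3 : 3 ≤ r)
  (hcard : Fintype.card F = Nat.card F₀ ^ r) {M : Subgroup (isomGroup B)}
  (hM : ∀ g, idet B g = 1 → Pres V₀ g → g ∈ M)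
include hR h3 hr hr3 hcard hM

/-- An overgroup moving the rational structure has an irrational transvection at a rational point. -/
theorem exists_irr {g : isomGroup B} (hg : g ∈ M) (hgP : ¬ Pres V₀ g) :
    ∃ a : V₀, a ≠ 0 ∧ B (a : V) (a : V) = 0 ∧ ∃ t, σ t = t ∧ t ∉ F₀ ∧ hR.hTv (a : V) t ∈ M := by
  classical
  by_contra hc
  have hno : ∀ a : V₀, a ≠ 0 → B (a : V) (a : V) = 0 → ∀ t, σ t = t → hR.hTv (a : V) t ∈ M → t ∈ F₀ :=
    fun a ha haa t ht htM => by_contra fun h => hc ⟨a, ha, haa, t, ht, h, htM⟩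
  have hMrat := rat_mem hR hM
  obtain ⟨e, hee, he⟩ := exists_moved hR h3 hgP
  have he0 : e ≠ 0 := fun h => he 1 one_ne_zero (by simp [h])
  by_cases hq : (2 : F) ≠ 0 ∨ ∃ c ∈ F₀, σ c = c ∧ c ≠ 0 ∧ c ≠ 1
  · set w := g.1 (e : V) with hw
    have hww : B w w = 0 := by rw [hw, isomGroup_apply, hee]
    have hw0 : w ≠ 0 := fun h => he0 (Subtype.ext (g.1.map_eq_zero_iff.1 h))
    obtain ⟨u, huu, hβ, hN⟩ := exists_pair hR h3 hr hr3 hcard hww hw0 he
    set β := B (u : V) w with hβdef
    have hk : ε * β ≠ 0 := mul_ne_zero hR.eps_ne hβ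
    set v := (ε * β)⁻¹ • w with hv
    have hwv : w = (ε * β) • v := by rw [hv, smul_smul, mul_inv_cancel₀ hk, one_smul]
    have hvv : B v v = 0 := by rw [hv, hR.herm.smul_self, hww, mul_zero]
    have huv : B (u : V) v = ε⁻¹ := by
      rw [hv, map_smul, smul_eq_mul, ← hβdef, mul_inv, mul_assoc, inv_mul_cancel₀ hβ, mul_one]
    set t := ε * β * σ (ε * β) with ht
    have htf : σ t = t := hR.herm.conj.norm_fixed _
    have ht0 : t ∉ F₀ := fun h => hN (by
      have := div_mem h (mul_mem hR.eps_mem (hR.stable _ hR.eps_mem))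
      rwa [ht, map_mul, show ε * β * (σ ε * σ β) = β * σ β * (ε * σ ε) by ring,
        mul_div_cancel_right₀ _ (mul_ne_zero hR.eps_ne ((map_ne_zero σ).2 hR.eps_ne))] at this)
    have hvM : hR.hTv v t ∈ M := by
      have h := mul_mem (mul_mem hg (hMrat _ e.2 hee 1 (one_mem _) (map_one σ))) (inv_mem hg)
      rwa [hR.conj_hTv g hee (map_one σ), ← hw, hwv, hTv_smul hR hvv _ (map_one σ), one_mul] at h
    refine ht0 (hno u (fun h => hβ (by rw [hβdef, h]; simp)) huu t htf ?_)
    exact full_of_pair hR huu hvv huv hr hr3 hcard hq (fun s hs hsf => hMrat _ u.2 huu s hs hsf) htf ht0 hvM htf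
  · push Not at hq
    obtain ⟨s, hs0, hs⟩ := rational_image hR h3 hr hr3 hcard hq.1
      (fun c hc hcf => or_iff_not_imp_left.2 (hq.2 c hc hcf)) hM hno hee he0 hg
    exact he s hs0 hs

/-- An overgroup of a subfield group moving the rational structure contains the special group. -/
theorem subfield_top (hirr : ∃ t, σ t = t ∧ t ∉ F₀) {g : isomGroup B} (hg : g ∈ M) (hgP : ¬ Pres V₀ g) :
    sIsom B ≤ M := by
  classical
  have hMrat := rat_mem hR hM
  obtain ⟨u, hu0, huu, t₀, ht₀f, ht₀, ht₀M⟩ := exists_irr hR h3 hr hr3 hcard hM hg hgP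
  obtain ⟨f, x, hff, huf, hfu, hux, hxu, hfx, hxf, hxx, hdec⟩ := exists_triple hR h3 huu hu0
  have hax : ∀ {v : V}, B v v = 0 → (∀ s, σ s = s → hR.hTv v s ∈ M) → IsTAxis M v := fun {v} _ h g d hg => by
    obtain ⟨h1, h2⟩ := hR.eq_hTv hg
    rw [h2]; exact h _ h1
  have partner : ∀ p : V₀, B (p : V) (p : V) = 0 → B (u : V) (p : V) = 1 →
      IsTAxis M (u : V) ∧ IsTAxis M (p : V) := by
    intro p hpp hup
    set v := ε⁻¹ • (p : V) with hv
    have hvmem : v ∈ V₀ := smul_mem' (inv_mem hR.eps_mem) p.2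
    have hvv : B v v = 0 := by rw [hv, hR.herm.smul_self, hpp, mul_zero]
    have huv : B (u : V) v = ε⁻¹ := by rw [hv, map_smul, hup, smul_eq_mul, mul_one]
    have h := fun {s : F} (hs : σ s = s) => full_of_irr hR huu hvv huv hr hr3 hcard
      (fun s hs hsf => hMrat _ u.2 huu s hs hsf) (fun s hs hsf => hMrat _ hvmem hvv s hs hsf) ht₀f ht₀ ht₀M hs
    refine ⟨hax huu fun s hs => (h hs).1, ?_⟩
    have := (hax hvv fun s hs => (h hs).2).smul hR.herm.conj.invol hR.eps_ne
    rwa [hv, smul_smul, mul_inv_cancel₀ hR.eps_ne, one_smul] at this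
  obtain ⟨hau, haf⟩ := partner f hff huf
  set P := Submodule.span F ({(u : V), (f : V)} : Set V) with hP
  have huP : (u : V) ∈ P := Submodule.subset_span (by simp)
  have hfP : (f : V) ∈ P := Submodule.subset_span (by simp)
  have haxP : ∀ p ∈ P, B p p = 0 → IsTAxis M p := by
    intro p hp hpp
    obtain ⟨α, β, rfl⟩ := Submodule.mem_span_pair.1 hp
    by_cases hβ : β = 0
    · by_cases hα : α = 0
      · rw [hα, hβ, zero_smul, zero_smul, add_zero]; exact hR.herm.isTAxis_zero M
      · rw [hβ, zero_smul, add_zero]; exact hau.smul hR.herm.conj.invol hα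
    have hb : σ α * β + σ β * α = 0 := by
      simp [huu, hff, huf, hfu] at hpp
      linear_combination hpp
    set b := α / β with hbdef
    have hσβ : σ β ≠ 0 := (map_ne_zero σ).2 hβ
    have hbs : σ b = -b := by
      rw [hbdef, map_div₀]
      field_simp
      linear_combination hb
    have htf : σ (b / ε) = b / ε := by rw [map_div₀, hbs, hR.eps_tr, neg_div_neg_eq]
    have hmap : (hR.hTv (u : V) (b / ε)).1 (f : V) = (f : V) + b • (u : V) := by
      rw [hR.hTv_apply huu htf, huf, mul_one, mul_div_cancel₀ _ hR.eps_ne]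
    have hmem : hR.hTv (u : V) (b / ε) ∈ M := hau _ _ (hR.hTv_isUTv huu htf)
    have h1 := (haf.map hmem).smul hR.herm.conj.invol hβ
    rw [hmap, smul_add, smul_smul, hbdef, mul_div_cancel₀ _ hβ] at h1
    rwa [add_comm]
  have hPn : NondegOn B P := nondegOn_iff.2 fun p hp hperp => by
    obtain ⟨α, β, rfl⟩ := Submodule.mem_span_pair.1 hp
    have h1 := hperp _ huP
    have h2 := hperp _ hfP
    simp [huu, hff, huf, hfu] at h1 h2
    simp [h1, h2]
  have hxP : (x : V) ∈ perp B P := mem_perp.2 fun p hp => by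
    obtain ⟨α, β, rfl⟩ := Submodule.mem_span_pair.1 hp
    simp [hux, hfx]
  have hli : LinearIndependent F ![(u : V), (f : V)] := LinearIndependent.pair_iff.2 fun α β e => by
    have h1 := congrArg (B (f : V)) e
    have h2 := congrArg (B (u : V)) e
    simp [huu, hff, huf, hfu] at h1 h2
    exact ⟨h1, h2⟩
  have hfr : finrank F P = 2 := by
    have := finrank_span_eq_card hli
    rwa [Matrix.range_cons, Matrix.range_cons, Matrix.range_empty, Set.union_empty, Set.singleton_union,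
      Fintype.card_fin] at this
  -- a rational isotropic vector off the plane
  obtain ⟨c, hc⟩ := hR.conj₀.exists_trace_eq (a := -hR.form₀ x x) (by rw [map_neg, hR.herm₀.self_fixed])
  have hc' : (c : F) + σ (c : F) = -B (x : V) (x : V) := by
    simpa [hR.sig₀_coe, hR.form₀_coe] using congrArg (Subtype.val : F₀ → F) hc
  set p₀ := (f : V) + (c : F) • (u : V) with hp₀
  have hp₀P : p₀ ∈ P := P.add_mem hfP (P.smul_mem _ huP)
  have hp₀p₀ : B p₀ p₀ = -B (x : V) (x : V) := by
    simp [hp₀, huu, hff, huf, hfu]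
    linear_combination hc'
  have hA₀ : IsTAxis M ((x : V) + p₀) := by
    have h := (partner (x + (f + c • u)) ?_ ?_).2
    · simpa [hp₀, coe_smul_eq] using h
    · simp [coe_smul_eq, huu, hff, huf, hfu, hux, hxu, hfx, hxf]
      linear_combination hc'
    · simp [coe_smul_eq, hux, huf, huu]
  obtain ⟨t, htf, htF⟩ := hirr
  have hbig : BigFixed σ := ⟨t, htf, fun e => htF (e ▸ zero_mem _), fun e => htF (e ▸ one_mem _)⟩
  refine hR.herm.sIsom_le_of_axes_big hR.nondeg hbig fun v hv => ?_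
  by_cases hγ : B (x : V) v = 0
  · refine haxP v ?_ hv
    rw [hdec v, hγ, zero_div, zero_smul, add_zero]
    exact P.add_mem (P.smul_mem _ huP) (P.smul_mem _ hfP)
  set γ := B (x : V) v / B (x : V) (x : V) with hγdef
  have hγ0 : γ ≠ 0 := div_ne_zero hγ hxx
  set p := γ⁻¹ • (B (f : V) v • (u : V) + B (u : V) v • (f : V)) with hp
  have hpP : p ∈ P := P.smul_mem _ (P.add_mem (P.smul_mem _ huP) (P.smul_mem _ hfP))
  have hvp : v = γ • ((x : V) + p) := by
    conv_lhs => rw [hdec v]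
    rw [smul_add, hp, smul_smul, mul_inv_cancel₀ hγ0, one_smul, add_comm]
  have hpp : B p p = -B (x : V) (x : V) := by
    have h1 := hv
    rw [hvp, hR.herm.smul_self, hR.herm.add_self, hR.symm_zero (mem_perp.1 hxP p hpP)] at h1
    have := (mul_eq_zero.1 h1).resolve_left (mul_ne_zero hγ0 ((map_ne_zero σ).2 hγ0))
    simp at this
    linear_combination this
  clear_value p γ p₀
  obtain ⟨τ, ⟨hτ, -⟩, hτx⟩ := (hR.herm.restrict P).trans_plane (restrictForm_separatingRight hPn) (P := ⊤)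
    (nondegOn_iff.2 fun y _ hy => restrictForm_separatingRight hPn y fun z => hy z trivial)
    (by rw [finrank_top, hfr]) (x := ⟨p₀, hp₀P⟩) (y := ⟨p, hpP⟩) trivial trivial
    (show B p₀ p₀ = B p p by rw [hp₀p₀, hpp]) (show B p₀ p₀ ≠ 0 by rw [hp₀p₀]; exact neg_ne_zero.2 hxx)
  let φ : isomGroup (restrictForm B P) →* isomGroup B :=
    (isomSum hPn.isCompl (fun _ hw' _ hu' => mem_perp.1 hu' _ hw')
      (fun _ hw' _ hu' => orth_symm hR.herm.isRefl hw' hu')).comp (MonoidHom.inl _ _)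
  have hφ : φ τ ∈ M := by
    refine (Subgroup.closure_le (K := M.comap φ)).2 ?_ hτ
    rintro q ⟨y, k, hq⟩
    refine haxP (y : V) y.2 hq.1 _ k ⟨hq.1, hq.2.1, fun z => ?_⟩
    obtain ⟨a', b', rfl⟩ := exists_add_eq hPn.isCompl z
    change sumEquiv hPn.isCompl q.1 _ _ = _
    rw [sumEquiv_apply, hq.2.2, map_add, mem_perp.1 b'.2 _ y.2, add_zero]
    simp only [Submodule.coe_add, Submodule.coe_smul, restrictForm_apply]
    change _ + (b' : V) = _
    abel
  have himg : (φ τ).1 ((x : V) + p₀) = (x : V) + p := by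
    rw [add_comm (x : V) p₀, add_comm (x : V) p]
    change sumEquiv hPn.isCompl τ.1 _ (((⟨p₀, hp₀P⟩ : P) : V) + ((⟨(x : V), hxP⟩ : perp B P) : V)) = _
    rw [sumEquiv_apply]
    exact congrArg₂ (· + ·) (congrArg Subtype.val hτx) rfl
  have h := hA₀.map hφ
  rw [himg] at h
  rw [hvp]
  exact h.smul hR.herm.conj.invol hγ0

end CfsgLib.Classical.GeoThree.SU.Sub

namespace CfsgLib.Classical.GeoThree.SU

/-- Subfield groups of odd prime index are maximal. -/
theorem subfieldOdd_maximal_three {F : Type*} [Field F] [Fintype F] (n q : ℕ) (hF : Fintype.card F = q ^ 2) (hn : n = 3) (F₀ : Subfield F) (r : ℕ) (hr : r.Prime) (hro : Odd r) (hcard : Fintype.card F = Nat.card F₀ ^ r) (P : Matrix.GeneralLinearGroup (Fin n) F) (hP : Cfsg.Geo.IsFormRationalStructure (Cfsg.hermForm n F q) F₀ 1 P) : Cfsg.Geo.IsMaximalIn (Cfsg.GU n F q ⊓ Cfsg.Geo.specialLinear (Fin n) F) (Cfsg.Geo.subfieldSubgroup F₀ P ⊓ (Cfsg.GU n F q ⊓ Cfsg.Geo.specialLinear (Fin n) F)) := by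
  classical
  obtain ⟨σ, hσ, hc⟩ := CfsgLib.Classical.exists_frob hF
  have hr2 : r ≠ 2 := by rintro rfl; exact absurd hro (by decide)
  have hr3 : 3 ≤ r := by have := hr.two_le; omega
  -- the fixed elements of `σ`
  have hfixcard : Nat.card {x : F // σ x = x} = q := by
    have h1 := (CfsgLib.Classical.frob_cards hF hσ hc).1
    have h2 : 1 ≤ q := by have := CfsgLib.Classical.two_le_of_card_sq hF; omega
    let K : Subfield F := σ.eqLocusField (RingHom.id F)
    have e1 : Nat.card {x : F // σ x = x} = Nat.card K := Nat.card_congr (Equiv.subtypeEquivRight fun x => Iff.rfl)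
    haveI := Fintype.ofFinite K
    have e2 : Nat.card Kˣ = Nat.card (CfsgLib.Classical.fixedUnits σ) := by
      refine Nat.card_congr
        { toFun := fun u => ⟨Units.map (K.subtype : K →* F) u, (u : K).2⟩
          invFun := fun u => ⟨⟨(u.1 : F), u.2⟩, ⟨((u.1⁻¹ : Fˣ) : F), (inv_mem u.2 : u.1⁻¹ ∈ CfsgLib.Classical.fixedUnits σ)⟩,
            Subtype.ext (by simp), Subtype.ext (by simp)⟩
          left_inv := fun u => Units.ext (Subtype.ext rfl)
          right_inv := fun u => Subtype.ext (Units.ext rfl) }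
    rw [Nat.card_units, h1] at e2
    have := Nat.card_pos (α := K)
    omega
  obtain ⟨lam, hlamfix, hlam⟩ : ∃ lam : F, σ lam = lam ∧ lam ∉ F₀ := by
    by_contra h
    push Not at h
    have h1 : q ≤ Nat.card F₀ := hfixcard ▸ Nat.card_le_card_of_injective
      (fun x : {x : F // σ x = x} => (⟨x.1, h x.1 x.2⟩ : F₀)) (fun a b e => Subtype.ext (congrArg (fun z : F₀ => (z : F)) e))
    have h2 : q ^ r ≤ q ^ 2 := hF ▸ hcard ▸ Nat.pow_le_pow_left h1 r
    have h3 := (Nat.pow_le_pow_iff_right (CfsgLib.Classical.two_le_of_card_sq hF)).1 h2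
    omega
  have hstable : ∀ c ∈ F₀, σ c ∈ F₀ := fun c hc' => by rw [hσ]; exact pow_mem hc' q
  have htw : ∃ c ∈ F₀, σ c ≠ c := by
    by_contra h
    push Not at h
    have hall : ∀ x : F, σ x = x := CfsgLib.Classical.SubfieldMax.eq_top_of_prime_degree hr hcard
      (σ.eqLocus (RingHom.id F)) (fun c hc' => h c hc') (μ := lam) hlamfix hlam
    exact hc.ne_id (RingHom.ext hall)
  obtain ⟨d, hd, hd'⟩ := htw
  let B := CfsgLib.Classical.stdHerm σ n
  let Pm : Matrix (Fin n) (Fin n) F := P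
  let Pi' : Matrix (Fin n) (Fin n) F := ((P⁻¹ : GL (Fin n) F) : Matrix _ _ F)
  have hPP : ∀ x, Pm.mulVec (Pi'.mulVec x) = x := fun x => by
    rw [Matrix.mulVec_mulVec, ← Units.val_mul, mul_inv_cancel, Units.val_one, Matrix.one_mulVec]
  have hPP' : ∀ x, Pi'.mulVec (Pm.mulVec x) = x := fun x => by
    rw [Matrix.mulVec_mulVec, ← Units.val_mul, inv_mul_cancel, Units.val_one, Matrix.one_mulVec]
  let V₀ : Submodule F₀ (Fin n → F) :=
    { carrier := {x | ∀ i, Pi'.mulVec x i ∈ F₀}
      add_mem' := fun {a b} ha hb i => by rw [Matrix.mulVec_add]; exact add_mem (ha i) (hb i)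
      zero_mem' := fun i => by rw [Matrix.mulVec_zero]; exact zero_mem F₀
      smul_mem' := fun c a ha i => by
        rw [CfsgLib.Classical.SubfieldMax.coe_smul_eq, Matrix.mulVec_smul]; exact mul_mem c.2 (ha i) }
  have hcol : ∀ j, Pm.mulVec (Pi.single j 1) ∈ V₀ := fun j i => by
    rw [hPP', Pi.single_apply]; split_ifs <;> [exact one_mem F₀; exact zero_mem F₀]
  have hR : CfsgLib.Classical.SubfieldMax.IsHFrame B V₀ (d - σ d) := by
    refine ⟨CfsgLib.Classical.stdHerm_isHermitian hc n, CfsgLib.Classical.stdHerm_sepRight n, hstable, ⟨d, hd, hd'⟩,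
      sub_mem hd (hstable d hd), sub_ne_zero.2 (Ne.symm hd'), by rw [map_sub, hc.invol, neg_sub], fun u hu v hv => ?_,
      eq_top_iff.2 fun x _ => ?_⟩
    · have h := hP _ _ hv hu
      rw [one_mul] at h
      rwa [hPP, hPP, CfsgLib.Classical.hermForm_eq_stdHerm hσ] at h
    · rw [show x = ∑ j, Pi'.mulVec x j • Pm.mulVec (Pi.single j 1) by
        rw [← (Finset.sum_congr rfl fun j _ => Matrix.mulVec_smul Pm (Pi'.mulVec x j) (Pi.single j 1)),
          ← Matrix.mulVec_sum]
        conv_lhs => rw [← hPP x]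
        congr 1
        ext i; simp [Finset.sum_apply, Pi.single_apply]]
      exact Submodule.sum_mem _ fun j _ => Submodule.smul_mem _ _ (Submodule.subset_span (hcol j))
  have h3 : Module.finrank F (Fin n → F) = 3 := by rw [Module.finrank_fin_fun, hn]
  have hP' : ∀ g : CfsgLib.Classical.isomGroup B, CfsgLib.Classical.linToGL g.1 ∈ Geo.subfieldSubgroup F₀ P ↔
      ∃ s : F, s ≠ 0 ∧ ∀ f ∈ V₀, s • g.1 f ∈ V₀ := by
    intro g
    rw [CfsgLib.Classical.SubfieldMax.mem_subfieldSubgroup_iff]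
    refine exists_congr fun c => and_congr_right fun _ => ⟨fun h f hf i => ?_, fun h a b => ?_⟩
    · have e : Pi'.mulVec (c • g.1 f) =
          (c • ((P⁻¹ * CfsgLib.Classical.linToGL g.1 * P : GL (Fin n) F) : Matrix _ _ F)).mulVec (Pi'.mulVec f) := by
        rw [Matrix.mulVec_smul, Matrix.smul_mulVec, Units.val_mul, Units.val_mul, ← Matrix.mulVec_mulVec,
          ← Matrix.mulVec_mulVec, show (P : Matrix _ _ F).mulVec (Pi'.mulVec f) = f from hPP f,
          CfsgLib.Classical.linToGL_mulVec]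
      rw [e]
      simp only [Matrix.mulVec, dotProduct]
      refine Subfield.sum_mem _ fun j _ => mul_mem ?_ (hf j)
      exact h i j
    · have := h _ (hcol b) a
      rw [Matrix.mulVec_smul, Pi.smul_apply, ← CfsgLib.Classical.linToGL_mulVec, Matrix.mulVec_mulVec,
        Matrix.mulVec_mulVec, Matrix.mulVec_single_one] at this
      rw [Units.val_mul, Units.val_mul]
      exact this
  refine CfsgLib.Classical.gu_isMaximalIn hσ _ (fun g => ∃ s : F, s ≠ 0 ∧ ∀ f ∈ V₀, s • g.1 f ∈ V₀) hP' ?_ ?_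
  · obtain ⟨u, -, hu0, huu⟩ := hR.exists_iso_in ⊤ (by rw [finrank_top]; have := hR.finrank_le; omega)
    obtain ⟨v, hvv, huv, -⟩ := hR.exists_iso_partner huu [] (by simp) (by simpa using hu0)
    have hvu : B (v : _ → F) (u : _ → F) = 1 := by rw [← hR.symm, huv, map_one]
    refine ⟨hR.hTv (u : _ → F) lam, hR.herm.idet_uTv (hR.hTv_isUTv huu hlamfix), fun ⟨s, hs, hsV⟩ => ?_⟩
    have h1 := hR.form _ v.2 _ (hsV _ u.2)
    rw [hR.hTv_apply huu hlamfix, huu, mul_zero, zero_smul, add_zero, map_smul, hvu, smul_eq_mul, mul_one] at h1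
    have h2 := hR.form _ v.2 _ (hsV _ v.2)
    rw [hR.hTv_apply huu hlamfix, huv, mul_one, map_smul, map_add, map_smul, hvv, hvu, zero_add, smul_eq_mul,
      smul_eq_mul, mul_one] at h2
    have h3 := div_mem h2 (mul_mem h1 hR.eps_mem)
    refine hlam ?_
    rwa [← mul_assoc, mul_div_cancel_left₀ _ (mul_ne_zero hs hR.eps_ne)] at h3
  · intro M hM g hg hgP
    exact Sub.subfield_top hR h3 hr hr3 hcard (fun g hg hP => hM g hg hP) ⟨lam, hlamfix, hlam⟩ hg hgP

end CfsgLib.Classical.GeoThree.SU
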